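import Mathlib

/-!
# Lower bounds for numbers of conjugacy classes
-/

set_option autoImplicit false

namespace Cfsg.Agent.Lib.TransClasses53

universe u v

variable {G : Type u} [Group G] [Finite G]

/-- The size of a class times the order of a centraliser. -/
theorem carrier_mul_centralizer (g : G) :
    Nat.card (ConjClasses.mk g).carrier * Nat.card ↥(Subgroup.centralizer ({g} : Set G)) =
      Nat.card G := by
  classical
  have : Fintype G := Fintype.ofFinite G
  rw [Nat.card_eq_fintype_card, ConjClasses.card_carrier, Fintype.card_eq_nat_card,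
    Fintype.card_eq_nat_card, Subgroup.nat_card_centralizer_nat_card_stabilizer]
  exact Nat.div_mul_cancel (Subgroup.card_subgroup_dvd_card _)

/-- A group of order at least three has at least three classes. -/
theorem three_le_card_conjClasses (h : 3 ≤ Nat.card G) : 3 ≤ Nat.card (ConjClasses G) := by
  classical
  by_contra hc
  push Not at hc
  have : Fintype G := Fintype.ofFinite G
  obtain ⟨x, hx⟩ : ∃ x : G, x ≠ 1 := by
    have : Nontrivial G := Finite.one_lt_card_iff_nontrivial.mp (by omega)
    exact exists_ne 1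
  have hall : ∀ y : G, y ≠ 1 → ConjClasses.mk y = ConjClasses.mk x := by
    intro y hy
    by_contra hne
    have h1 : ∀ z : G, z ≠ 1 → ConjClasses.mk z ≠ ConjClasses.mk (1 : G) := fun z hz he =>
      hz (isConj_one_left.mp (ConjClasses.mk_eq_mk_iff_isConj.mp he))
    have : 3 ≤ Nat.card (ConjClasses G) := by
      rw [← show Nat.card (Fin 3) = 3 by simp]
      refine Nat.card_le_card_of_injective
        ![ConjClasses.mk (1 : G), ConjClasses.mk x, ConjClasses.mk y] ?_
      intro i j hij
      fin_cases i <;> fin_cases j <;> first | rfl | skip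
      all_goals simp at hij
      all_goals first
        | exact absurd hij (h1 x hx)
        | exact absurd hij.symm (h1 x hx)
        | exact absurd hij (h1 y hy)
        | exact absurd hij.symm (h1 y hy)
        | exact absurd hij hne
        | exact absurd hij.symm hne
    omega
  have hcar : Nat.card (ConjClasses.mk x).carrier + 1 = Nat.card G := by
    have h2 : (ConjClasses.mk x).carrier = ({1} : Set G)ᶜ := by
      ext y
      rw [ConjClasses.mem_carrier_iff_mk_eq, Set.mem_compl_iff, Set.mem_singleton_iff]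
      refine ⟨fun he hy => hx ?_, hall y⟩
      subst hy
      exact isConj_one_right.mp (ConjClasses.mk_eq_mk_iff_isConj.mp he.symm).symm
    rw [h2, Nat.card_coe_set_eq, Set.ncard_compl, Set.ncard_singleton]
    omega
  have hdvd : Nat.card (ConjClasses.mk x).carrier ∣ Nat.card G :=
    Dvd.intro _ (carrier_mul_centralizer x)
  set s := Nat.card (ConjClasses.mk x).carrier
  have : s ∣ 1 := (Nat.dvd_add_right dvd_rfl).mp (hcar.symm ▸ hdvd)
  rw [Nat.dvd_one] at this
  omega

/-- An abelian subgroup meets at most its index many elements in each class. -/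
theorem card_le_index_mul_classes (A : Subgroup G) (hA : IsMulCommutative A) :
    Nat.card A ≤ A.index * Nat.card (ConjClasses G) := by
  classical
  have : Fintype G := Fintype.ofFinite G
  let S : Finset G := Finset.univ.filter (· ∈ A)
  have hS : S.card = Nat.card A := by
    rw [Nat.card_eq_fintype_card, Fintype.card_of_subtype S (fun x => by simp [S])]
  rw [← hS, Nat.card_eq_fintype_card, ← Finset.card_univ]
  refine Finset.card_le_mul_card_image_of_maps_to (f := ConjClasses.mk)
    (fun a _ => Finset.mem_univ _) _ fun c _ => ?_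
  by_cases hne : (S.filter fun a => ConjClasses.mk a = c).Nonempty
  swap
  · simp [Finset.not_nonempty_iff_eq_empty.mp hne]
  obtain ⟨a, ha⟩ := hne
  simp only [Finset.mem_filter, S, Finset.mem_univ, true_and] at ha
  obtain ⟨haA, rfl⟩ := ha
  have hle : A ≤ Subgroup.centralizer ({a} : Set G) := fun b hb => by
    rw [Subgroup.mem_centralizer_singleton_iff]
    exact congrArg Subtype.val (hA.is_comm.comm ⟨b, hb⟩ ⟨a, haA⟩)
  have h1 : (S.filter fun b => ConjClasses.mk b = ConjClasses.mk a).card ≤
      Nat.card (ConjClasses.mk a).carrier := by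
    rw [Nat.card_eq_fintype_card, ← Set.toFinset_card]
    refine Finset.card_le_card fun b hb => ?_
    rw [Set.mem_toFinset, ConjClasses.mem_carrier_iff_mk_eq]
    exact (Finset.mem_filter.mp hb).2
  refine h1.trans (Nat.le_of_mul_le_mul_left ?_ (Nat.card_pos (α := A)))
  rw [Subgroup.card_mul_index, ← carrier_mul_centralizer a,
    mul_comm (Nat.card (ConjClasses.mk a).carrier)]
  exact Nat.mul_le_mul_right _ (Nat.card_le_card_of_injective _ (Subgroup.inclusion_injective hle))

/-- Class number of a group with abelian centralisers of fusion at most two. -/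
theorem classes_ge_of_index {i : ℕ} (hi : (Subgroup.center G).index = i) (h3 : 3 ∣ i)
    (hab : ∀ g : G, g ∉ Subgroup.center G →
      ∀ x ∈ Subgroup.centralizer {g}, ∀ y ∈ Subgroup.centralizer {g}, x * y = y * x)
    (hfus : ∀ g : G, g ∉ Subgroup.center G →
      Nat.card {x : G // x ∈ Subgroup.centralizer {g} ∧ ∃ y, y * g * y⁻¹ = x} ≤ 2) :
    10 * i * Nat.card (Subgroup.center G) ≤
      3 * i * Nat.card (ConjClasses G) + 6 * Nat.card (Subgroup.center G) := by
  classical
  have : Fintype G := Fintype.ofFinite G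
  have hi0 : i ≠ 0 := hi ▸ Subgroup.index_ne_zero_of_finite
  set Z := Subgroup.center G with hZ
  set c := Nat.card Z with hc
  have hcard : c * i = Nat.card G := by rw [hc, ← hi, Subgroup.card_mul_index]
  have hcpos : 0 < c := Nat.card_pos
  -- an element of order three modulo the centre
  obtain ⟨x, hx1, hx2⟩ : ∃ x : G, x ∉ Z ∧ x ^ 2 ∉ Z := by
    haveI : Fact (Nat.Prime 3) := ⟨Nat.prime_three⟩
    obtain ⟨y, hy⟩ := exists_prime_orderOf_dvd_card' (G := G ⧸ Z) 3
      (by rw [← Subgroup.index_eq_card, hi]; exact h3)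
    obtain ⟨x, rfl⟩ := QuotientGroup.mk'_surjective Z y
    refine ⟨x, fun h => ?_, fun h => ?_⟩
    · rw [show (QuotientGroup.mk' Z) x = 1 from (QuotientGroup.eq_one_iff x).mpr h, orderOf_one] at hy
      omega
    · have h4 : (QuotientGroup.mk' Z) x ^ 2 = 1 := by
        rw [← map_pow]; exact (QuotientGroup.eq_one_iff _).mpr h
      have := Nat.le_of_dvd two_pos (hy ▸ orderOf_dvd_of_pow_eq_one h4)
      omega
  set A := Subgroup.centralizer ({x} : Set G) with hA
  have hxA : ∀ j : ℕ, x ^ j ∈ A := fun j => by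
    rw [hA, Subgroup.mem_centralizer_singleton_iff, ← pow_succ, ← pow_succ']
  have hzA : ∀ z ∈ Z, z ∈ A := fun z hz => by
    rw [hA, Subgroup.mem_centralizer_singleton_iff]
    exact (Subgroup.mem_center_iff.mp hz x).symm
  have hnot : ∀ (g z : G), z ∈ Z → g ∉ Z → g * z ∉ Z := fun g z hz hg h =>
    hg (by simpa using Z.mul_mem h (Z.inv_mem hz))
  -- two cosets inside every centraliser, three inside that of `x`
  have hsize : ∀ g : G, g ∉ Z → 2 * c ≤ Nat.card ↥(Subgroup.centralizer ({g} : Set G)) := by
    intro g hg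
    rw [mul_comm, hc, ← show Nat.card (Z × Fin 2) = Nat.card Z * 2 by simp]
    refine Nat.card_le_card_of_injective (fun w : Z × Fin 2 =>
      (⟨![1, g] w.2 * (w.1 : G), ?_⟩ : ↥(Subgroup.centralizer ({g} : Set G)))) ?_
    · refine (Subgroup.centralizer ({g} : Set G)).mul_mem ?_
        (Subgroup.mem_centralizer_singleton_iff.mpr (Subgroup.mem_center_iff.mp w.1.2 g).symm)
      obtain ⟨z, j⟩ := w
      fin_cases j
      · exact one_mem _
      · exact Subgroup.mem_centralizer_singleton_iff.mpr rfl
    · rintro ⟨z, j⟩ ⟨z', j'⟩ h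
      have h' : ![1, g] j * (z : G) = ![1, g] j' * (z' : G) := congrArg Subtype.val h
      fin_cases j <;> fin_cases j' <;> simp at h'
      · exact Prod.ext (Subtype.ext (by simpa using h')) rfl
      · exact absurd (h' ▸ z.2) (hnot g z' z'.2 hg)
      · exact absurd (h'.symm ▸ z'.2) (hnot g z z.2 hg)
      · exact Prod.ext (Subtype.ext (by simpa using h')) rfl
  have hsizeA : 3 * c ≤ Nat.card A := by
    rw [mul_comm, hc, ← show Nat.card (Z × Fin 3) = Nat.card Z * 3 by simp]
    refine Nat.card_le_card_of_injective (fun w : Z × Fin 3 =>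
      (⟨x ^ (w.2 : ℕ) * (w.1 : G), A.mul_mem (hxA _) (hzA _ w.1.2)⟩ : A)) ?_
    rintro ⟨z, j⟩ ⟨z', j'⟩ h
    have h' : x ^ (j : ℕ) * (z : G) = x ^ (j' : ℕ) * (z' : G) := congrArg Subtype.val h
    have key : ∀ (a b : Fin 3) (u w : Z), (a : ℕ) < b → x ^ (a : ℕ) * (u : G) ≠ x ^ (b : ℕ) * w := by
      intro a b u w hab' he
      obtain ⟨d, hd⟩ := Nat.exists_eq_add_of_lt hab'
      have hmem : x ^ (d + 1) ∈ Z := by
        have : (u : G) = x ^ (d + 1) * w := by
          apply mul_left_cancel (a := x ^ (a : ℕ))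
          rw [he, hd, ← mul_assoc, ← pow_add, add_assoc]
        rw [show x ^ (d + 1) = (u : G) * (w : G)⁻¹ by rw [this, mul_inv_cancel_right]]
        exact Z.mul_mem u.2 (Z.inv_mem w.2)
      have : d = 0 ∨ d = 1 := by omega
      rcases this with rfl | rfl
      · exact hx1 (by simpa using hmem)
      · exact hx2 hmem
    rcases lt_trichotomy (j : ℕ) j' with hlt | heq | hgt
    · exact absurd h' (key j j' z z' hlt)
    · obtain rfl : j = j' := Fin.ext heq
      exact Prod.ext (Subtype.ext (mul_left_cancel h')) rfl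
    · exact absurd h'.symm (key j' j z' z hgt)
  -- the noncentral classes, and those meeting `A`
  let N : Finset (ConjClasses G) := (ConjClasses.noncenter G).toFinset
  let T : Finset G := Finset.univ.filter fun y => y ∈ A ∧ y ∉ Z
  let S : Finset (ConjClasses G) := T.image ConjClasses.mk
  have hmemN : ∀ y : G, y ∉ Z → ConjClasses.mk y ∈ N := by
    intro y hy
    rw [Set.mem_toFinset]
    by_contra hmem
    obtain ⟨z, hz, he⟩ := (ConjClasses.mk_bijOn G).surjOn hmem
    obtain ⟨w, hw⟩ := isConj_iff.mp (ConjClasses.mk_eq_mk_iff_isConj.mp he)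
    refine hy ?_
    rw [← hw, Subgroup.mem_center_iff.mp hz w, mul_inv_cancel_right]
    exact hz
  have hSN : S ⊆ N := Finset.image_subset_iff.mpr fun y hy => hmemN y (Finset.mem_filter.mp hy).2.2
  have hcN : ∀ C ∈ N, ∃ y : G, y ∉ Z ∧ ConjClasses.mk y = C := by
    intro C hC
    obtain ⟨y, rfl⟩ := C.exists_rep
    refine ⟨y, fun hy => ?_, rfl⟩
    exact (ConjClasses.mk_bijOn G).mapsTo hy (Set.mem_toFinset.mp hC)
  have hclassS : ∀ C ∈ S, 6 * Nat.card C.carrier ≤ 2 * i := by
    intro C hC
    obtain ⟨y, hy, rfl⟩ := Finset.mem_image.mp hC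
    obtain ⟨hyA, hyZ⟩ := (Finset.mem_filter.mp hy).2
    have hle : A ≤ Subgroup.centralizer ({y} : Set G) := fun w hw => by
      rw [Subgroup.mem_centralizer_singleton_iff]
      exact hab x hx1 w hw y hyA
    have h1 := carrier_mul_centralizer y
    have h2 := hsizeA.trans (Nat.card_le_card_of_injective _ (Subgroup.inclusion_injective hle))
    have h5 := Nat.mul_le_mul_left (Nat.card (ConjClasses.mk y).carrier) h2
    have h6 : Nat.card (ConjClasses.mk y).carrier * 3 * c ≤ i * c := by
      rw [mul_assoc, mul_comm i, hcard, ← h1]; exact h5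
    have := Nat.le_of_mul_le_mul_right h6 hcpos
    omega
  have hclassN : ∀ C ∈ N, 6 * Nat.card C.carrier ≤ 3 * i := by
    intro C hC
    obtain ⟨y, hyZ, rfl⟩ := hcN C hC
    have h1 := carrier_mul_centralizer y
    have h5 := Nat.mul_le_mul_left (Nat.card (ConjClasses.mk y).carrier) (hsize y hyZ)
    have h6 : Nat.card (ConjClasses.mk y).carrier * 2 * c ≤ i * c := by
      rw [mul_assoc, mul_comm i, hcard, ← h1]; exact h5
    have := Nat.le_of_mul_le_mul_right h6 hcpos
    omega
  have hScard : c ≤ S.card := by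
    have h1 : T.card ≤ 2 * S.card := by
      refine Finset.card_le_mul_card_image (f := ConjClasses.mk) T 2 fun C hC => ?_
      obtain ⟨y, hy, rfl⟩ := Finset.mem_image.mp hC
      obtain ⟨hyA, hyZ⟩ := (Finset.mem_filter.mp hy).2
      refine le_trans ?_ (hfus y hyZ)
      rw [Nat.card_eq_fintype_card, Fintype.card_subtype]
      refine Finset.card_le_card fun w hw => ?_
      obtain ⟨hwT, hwc⟩ := Finset.mem_filter.mp hw
      rw [Finset.mem_filter, Subgroup.mem_centralizer_singleton_iff]
      exact ⟨Finset.mem_univ _, hab x hx1 w (Finset.mem_filter.mp hwT).2.1 y hyA,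
        isConj_iff.mp (ConjClasses.mk_eq_mk_iff_isConj.mp hwc).symm⟩
    have h2 : 2 * c ≤ T.card := by
      have h3 : Nat.card A = T.card + (Finset.univ.filter fun y => y ∈ Z).card := by
        rw [Nat.card_eq_fintype_card, Fintype.card_subtype, ← Finset.card_union_of_disjoint]
        · congr 1
          ext y
          simp only [T, Finset.mem_filter, Finset.mem_union, Finset.mem_univ, true_and]
          refine ⟨fun hy => ?_, ?_⟩
          · by_cases hz : y ∈ Z
            · exact Or.inr hz
            · exact Or.inl ⟨hy, hz⟩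
          · rintro (h | h)
            · exact h.1
            · exact hzA y h
        · rw [Finset.disjoint_left]
          intro y hy hy'
          exact (Finset.mem_filter.mp hy).2.2 (Finset.mem_filter.mp hy').2
      have h4 : (Finset.univ.filter fun y => y ∈ Z).card = c := by
        rw [hc, Nat.card_eq_fintype_card, Fintype.card_subtype]
      omega
    omega
  -- the class equation
  have hsum : c + ∑ C ∈ N, Nat.card C.carrier = Nat.card G := by
    rw [← Group.nat_card_center_add_sum_card_noncenter_eq_card G,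
      finsum_mem_eq_toFinset_sum]
  have hk : Nat.card (ConjClasses G) = c + N.card := by
    have h1 : Nat.card ↥((ConjClasses.noncenter G)ᶜ) = c :=
      (Nat.card_congr ((ConjClasses.mk_bijOn G).equiv _)).symm
    rw [Nat.card_coe_set_eq] at h1
    have h2 := Set.ncard_add_ncard_compl (ConjClasses.noncenter G)
    rw [h1, Set.ncard_eq_toFinset_card' (ConjClasses.noncenter G)] at h2
    change N.card + c = _ at h2
    omega
  have h6 : 6 * ∑ C ∈ N, Nat.card C.carrier ≤ S.card * (2 * i) + (N.card - S.card) * (3 * i) := by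
    rw [Finset.mul_sum, ← Finset.sum_sdiff hSN]
    have ha : ∑ C ∈ S, 6 * Nat.card C.carrier ≤ S.card * (2 * i) := by
      simpa using Finset.sum_le_card_nsmul S (fun C => 6 * Nat.card C.carrier) (2 * i) hclassS
    have hb : ∑ C ∈ N \ S, 6 * Nat.card C.carrier ≤ (N.card - S.card) * (3 * i) := by
      rw [← Finset.card_sdiff_of_subset hSN]
      simpa using Finset.sum_le_card_nsmul (N \ S) (fun C => 6 * Nat.card C.carrier) (3 * i)
        fun C hC => hclassN C (Finset.mem_sdiff.mp hC).1
    omega
  obtain ⟨e, he⟩ := Nat.exists_eq_add_of_le (Finset.card_le_card hSN)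
  obtain ⟨e', he'⟩ := Nat.exists_eq_add_of_le hScard
  rw [he, Nat.add_sub_cancel_left] at h6
  rw [← hcard] at hsum
  rw [hk, he]
  nlinarith

/-- The classes with a representative of order prime to `p`. -/
abbrev PRegClass (p : ℕ) (G : Type u) [Group G] : Type u :=
  {c : ConjClasses G // ∃ g : G, ConjClasses.mk g = c ∧ ¬ p ∣ orderOf g}

/-- A `p`-regular preimage of a `p`-regular element. -/
theorem exists_pRegular_lift {X : Type v} [Group X] {p : ℕ} [hp : Fact p.Prime] (f : G →* X)
    (g : G) (hg : ¬ p ∣ orderOf (f g)) : ∃ y : G, f y = f g ∧ ¬ p ∣ orderOf y := by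
  set m := orderOf g with hm
  have hm0 : m ≠ 0 := (orderOf_pos g).ne'
  set a := ordProj[p] m
  set b := ordCompl[p] m with hb
  have hab : a * b = m := Nat.ordProj_mul_ordCompl_eq_self m p
  have hcop : a.Coprime (orderOf (f g)) :=
    (hp.out.coprime_iff_not_dvd.mpr hg).pow_left _
  have hdvd : orderOf (f g) ∣ b :=
    (hcop.symm).dvd_of_dvd_mul_left (hab ▸ orderOf_map_dvd f g)
  -- `a * n ≡ 1` modulo `b`, so `g ^ (a * n)` is a preimage of order prime to `p`
  have hb' : a.Coprime b := (Nat.coprime_ordCompl hp.out hm0).pow_left _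
  obtain ⟨n, hn⟩ : ∃ n, (a * n) % orderOf (f g) = 1 % orderOf (f g) := by
    obtain ⟨n, -, hn⟩ := Nat.exists_mul_mod_eq_of_coprime 1 hcop (orderOf_pos_iff.mpr
      (f.isOfFinOrder (isOfFinOrder_of_finite g))).ne'
    exact ⟨n, hn⟩
  refine ⟨g ^ (a * n), ?_, fun h => ?_⟩
  · rw [map_pow, ← pow_mod_orderOf, hn, pow_mod_orderOf, pow_one]
  · have h1 : orderOf (g ^ (a * n)) ∣ b := orderOf_dvd_of_pow_eq_one (by
      rw [← pow_mul, mul_right_comm, hab, pow_mul, hm, pow_orderOf_eq_one, one_pow])
    exact Nat.not_dvd_ordCompl hp.out hm0 (h.trans h1)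

/-- Classes of a `p'`-image are bounded by the `p`-regular classes. -/
theorem classes_le {X : Type v} [Group X] {p : ℕ} [Fact p.Prime] (f : G →* X)
    (hf : Function.Surjective f) (hX : ¬ p ∣ Nat.card X) :
    Nat.card (ConjClasses X) ≤ Nat.card (PRegClass p G) := by
  refine Nat.card_le_card_of_surjective (fun c : PRegClass p G => c.1.map f) fun d => ?_
  obtain ⟨x, rfl⟩ := d.exists_rep
  obtain ⟨g, rfl⟩ := hf x
  have hfin : Finite X := Finite.of_surjective f hf
  obtain ⟨y, hy, hy'⟩ := exists_pRegular_lift (p := p) f g fun h => hX (h.trans (orderOf_dvd_natCard _))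
  exact ⟨⟨ConjClasses.mk y, y, rfl, hy'⟩, congrArg ConjClasses.mk hy⟩

/-- Classes of a quotient plus extra classes inside the kernel. -/
theorem classes_add_le {X : Type v} [Group X] {p : ℕ} [Fact p.Prime] (f : G →* X)
    (hf : Function.Surjective f) (hX : ¬ p ∣ Nat.card X) {ι : Type} [Finite ι] (t : ι → G)
    (ht : ∀ j, t j ≠ 1 ∧ f (t j) = 1 ∧ ¬ p ∣ orderOf (t j))
    (hinj : ∀ i j, IsConj (t i) (t j) → i = j) :
    Nat.card (ConjClasses X) + Nat.card ι ≤ Nat.card (PRegClass p G) := by
  classical
  have hfin : Finite X := Finite.of_surjective f hf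
  have hX' : ∀ x : X, ¬ p ∣ orderOf x := fun x h => hX (h.trans (orderOf_dvd_natCard _))
  have hlift : ∀ d : ConjClasses X, ∃ y : G, ConjClasses.mk (f y) = d ∧ ¬ p ∣ orderOf y ∧
      (d = ConjClasses.mk 1 → y = 1) := by
    intro d
    by_cases hd : d = ConjClasses.mk 1
    · exact ⟨1, by rw [map_one, hd], by simpa using (Fact.out : p.Prime).ne_one, fun _ => rfl⟩
    obtain ⟨x, rfl⟩ := d.exists_rep
    obtain ⟨g, rfl⟩ := hf x
    obtain ⟨y, hy, hy'⟩ := exists_pRegular_lift (p := p) f g (hX' _)
    exact ⟨y, congrArg ConjClasses.mk hy, hy', fun h => absurd h hd⟩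
  choose y hy hy' hy1 using hlift
  rw [← Nat.card_sum]
  refine Nat.card_le_card_of_injective
    (Sum.elim (fun d => (⟨ConjClasses.mk (y d), y d, rfl, hy' d⟩ : PRegClass p G))
      (fun j => ⟨ConjClasses.mk (t j), t j, rfl, (ht j).2.2⟩)) ?_
  have hmix : ∀ d j, ConjClasses.mk (y d) ≠ ConjClasses.mk (t j) := by
    intro d j he
    have h1 : d = ConjClasses.mk 1 := by
      rw [← hy d, ← (ht j).2.1]
      exact ConjClasses.mk_eq_mk_iff_isConj.mpr (f.map_isConj (ConjClasses.mk_eq_mk_iff_isConj.mp he))
    rw [hy1 d h1] at he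
    exact (ht j).1 (isConj_one_right.mp (ConjClasses.mk_eq_mk_iff_isConj.mp he))
  rintro (d | j) (d' | j') he <;> simp only [Sum.elim_inl, Sum.elim_inr, Subtype.mk.injEq] at he
  · refine congrArg Sum.inl ?_
    rw [← hy d, ← hy d']
    exact ConjClasses.mk_eq_mk_iff_isConj.mpr (f.map_isConj (ConjClasses.mk_eq_mk_iff_isConj.mp he))
  · exact absurd he (hmix d j')
  · exact absurd he.symm (hmix d' j)
  · exact congrArg Sum.inr (hinj _ _ (ConjClasses.mk_eq_mk_iff_isConj.mp he))

end Cfsg.Agent.Lib.TransClasses53
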