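import Cfsg.Agent.Lib.TransClasses53.ClassBound

/-!
# A noncyclic group of order `p ^ 2` with fused elements acting on a minimal normal subgroup
-/

set_option autoImplicit false

namespace Cfsg.Agent.Lib.TransClasses53

universe u

variable {G : Type u} [Group G] [Finite G]

/-- If `P` of order `p ^ 2` covers a normal subgroup modulo `K` and all nontrivial elements of
`K`, and all nontrivial `p`-elements, are conjugate, then `P` centralises `K`. -/
theorem centralizes {p : ℕ} [hp : Fact p.Prime] (K : Subgroup G) [K.Normal] (hne : K ≠ ⊥)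
    (hab : IsMulCommutative K) (hpK : ¬ p ∣ Nat.card K)
    (hKconj : ∀ a ∈ K, ∀ b ∈ K, a ≠ 1 → b ≠ 1 → IsConj a b)
    (hconj : ∀ x y : G, x ≠ 1 → y ≠ 1 → x ^ p = 1 → y ^ p = 1 → IsConj x y)
    (P : Subgroup G) (hP : Nat.card P = p ^ 2) (hexp : ∀ x ∈ P, x ^ p = 1)
    (hM : ∀ (g : G), ∀ x ∈ P, ∃ c ∈ K, ∃ y ∈ P, g * x * g⁻¹ = c * y) :
    (∀ x ∈ P, ∀ k ∈ K, x * k = k * x) ∧ P.Normal := by
  classical
  have hp0 : 0 < p := hp.out.pos
  have hPc : ∀ x ∈ P, ∀ y ∈ P, x * y = y * x := fun x hx y hy =>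
    congrArg Subtype.val (IsPGroup.commutative_of_card_eq_prime_sq hP ⟨x, hx⟩ ⟨y, hy⟩)
  have hKc : ∀ x ∈ K, ∀ y ∈ K, x * y = y * x := fun x hx y hy =>
    congrArg Subtype.val (hab.is_comm.comm ⟨x, hx⟩ ⟨y, hy⟩)
  have hPK : ∀ x ∈ P, x ∈ K → x = 1 := by
    intro x hx hxK
    by_contra h1
    exact hpK (orderOf_eq_prime (hexp x hx) h1 ▸ Subgroup.orderOf_dvd_natCard _ hxK)
  -- a conjugate of an element of `P` acts on `K` as an element of `P`
  have hact : ∀ (g : G), ∀ x ∈ P, x ≠ 1 → ∃ y ∈ P, y ≠ 1 ∧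
      ∀ k ∈ K, g * x * g⁻¹ * k * (g * x * g⁻¹)⁻¹ = y * k * y⁻¹ := by
    intro g x hx hx1
    obtain ⟨c, hc, y, hy, he⟩ := hM g x hx
    refine ⟨y, hy, fun h => ?_, fun k hk => ?_⟩
    · rw [h, mul_one] at he
      refine hx1 (hPK x hx ?_)
      have := Subgroup.Normal.conj_mem inferInstance c hc g⁻¹
      rw [← he] at this
      simpa [mul_assoc] using this
    · have h1 : y * k * y⁻¹ ∈ K := Subgroup.Normal.conj_mem inferInstance k hk y
      rw [he]
      calc c * y * k * (c * y)⁻¹ = c * (y * k * y⁻¹) * c⁻¹ := by group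
        _ = y * k * y⁻¹ := by rw [hKc c hc _ h1, mul_inv_cancel_right]
  -- an element of `P` is not a power of another
  have hz : ∀ a ∈ P, ∀ b ∈ P, a ≠ 1 → b ≠ 1 → b ∈ Subgroup.zpowers a → a ∈ Subgroup.zpowers b := by
    intro a ha b hb ha1 hb1 hab'
    have h2 : Subgroup.zpowers b = Subgroup.zpowers a :=
      Subgroup.eq_of_le_of_card_ge (Subgroup.zpowers_le.2 hab') (by
        rw [Nat.card_zpowers, Nat.card_zpowers, orderOf_eq_prime (hexp a ha) ha1,
          orderOf_eq_prime (hexp b hb) hb1])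
    rw [h2]
    exact Subgroup.mem_zpowers a
  suffices hcent : ∀ x ∈ P, ∀ k ∈ K, x * k = k * x by
    refine ⟨hcent, ⟨fun x hx g => ?_⟩⟩
    obtain ⟨c, hc, y, hy, he⟩ := hM g x hx
    rw [he]
    have h1 : (c * y) ^ p = 1 := by rw [← he, conj_pow, hexp x hx, mul_one, mul_inv_cancel]
    rw [(show Commute c y from (hcent y hy c hc).symm).mul_pow, hexp y hy, mul_one] at h1
    have hc1 : c = 1 := by
      by_contra hne1
      exact hpK (orderOf_eq_prime h1 hne1 ▸ Subgroup.orderOf_dvd_natCard _ hc)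
    rwa [hc1, one_mul]
  by_contra hcon
  push Not at hcon
  obtain ⟨x0, hx0, kx, hkx, hx0k⟩ := hcon
  -- no nontrivial element of `P` centralises `K`
  have hnone : ∀ a ∈ P, a ≠ 1 → ∃ k ∈ K, a * k ≠ k * a := by
    intro a ha ha1
    by_contra hall
    push Not at hall
    have hx01 : x0 ≠ 1 := fun h => hx0k (by rw [h, one_mul, mul_one])
    obtain ⟨g, hg⟩ := isConj_iff.1 (hconj a x0 ha1 hx01 (hexp a ha) (hexp x0 hx0))
    refine hx0k ?_
    rw [← hg]
    have h1 : g⁻¹ * kx * g ∈ K := by simpa using Subgroup.Normal.conj_mem inferInstance kx hkx g⁻¹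
    calc g * a * g⁻¹ * kx = g * (a * (g⁻¹ * kx * g)) * g⁻¹ := by group
      _ = g * ((g⁻¹ * kx * g) * a) * g⁻¹ := by rw [hall _ h1]
      _ = kx * (g * a * g⁻¹) := by group
  -- `P` has no fixed point in `K`
  have hfixP : ∀ w ∈ K, (∀ x ∈ P, x * w = w * x) → w = 1 := by
    intro w hw hfw
    by_contra hw1
    refine hx0k ?_
    rcases eq_or_ne kx 1 with rfl | hkx1
    · rw [one_mul, mul_one]
    obtain ⟨g, rfl⟩ := isConj_iff.1 (hKconj w hw kx hkx hw1 hkx1)
    rcases eq_or_ne x0 1 with rfl | hx01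
    · rw [one_mul, mul_one]
    obtain ⟨y, hy, -, hyk⟩ := hact g⁻¹ x0 hx0 hx01
    have h1 := hyk w hw
    rw [hfw y hy, mul_inv_cancel_right] at h1
    calc x0 * (g * w * g⁻¹) = g * (g⁻¹ * x0 * g⁻¹⁻¹ * w * (g⁻¹ * x0 * g⁻¹⁻¹)⁻¹) * g⁻¹ * x0 := by group
      _ = g * w * g⁻¹ * x0 := by rw [h1]
  -- two independent elements generate `P`
  have hgen : ∀ w ∈ K, ∀ a ∈ P, ∀ b ∈ P, a ≠ 1 → b ∉ Subgroup.zpowers a →
      a * w = w * a → b * w = w * b → w = 1 := by
    intro w hw a ha b hb ha1 hba hwa hwb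
    refine hfixP w hw fun x hx => ?_
    set S := P ⊓ Subgroup.centralizer ({w} : Set G) with hS
    have haS : a ∈ S := ⟨ha, Subgroup.mem_centralizer_singleton_iff.2 hwa⟩
    have hbS : b ∈ S := ⟨hb, Subgroup.mem_centralizer_singleton_iff.2 hwb⟩
    obtain ⟨j, hj, hjc⟩ := (Nat.dvd_prime_pow hp.out).1
      (hP ▸ Subgroup.card_dvd_of_le (inf_le_left : S ≤ P))
    have hle : Subgroup.zpowers a ≤ S := Subgroup.zpowers_le.2 haS
    have hj2 : j = 2 := by
      by_contra hne2
      refine hba ((Subgroup.eq_of_le_of_card_ge hle ?_).ge hbS)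
      rw [hjc, Nat.card_zpowers, orderOf_eq_prime (hexp a ha) ha1]
      calc p ^ j ≤ p ^ 1 := Nat.pow_le_pow_right hp0 (by omega)
        _ = p := pow_one p
    have hSP : S = P := Subgroup.eq_of_le_of_card_ge inf_le_left (by rw [hjc, hj2, hP])
    exact Subgroup.mem_centralizer_singleton_iff.1 (hSP.ge hx).2
  -- some nontrivial element of `P` fixes some nontrivial element of `K`
  obtain ⟨a0, ha0, ha01, k0, hk0, hk01, hak0⟩ :
      ∃ a ∈ P, a ≠ 1 ∧ ∃ k ∈ K, k ≠ 1 ∧ a * k = k * a := by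
    by_contra hall
    push Not at hall
    obtain ⟨a, ha, ha1⟩ : ∃ a ∈ P, a ≠ 1 := P.bot_or_exists_ne_one.resolve_left fun h => by
      rw [h, Subgroup.card_bot] at hP
      exact absurd hP (Nat.one_lt_pow two_ne_zero hp.out.one_lt).ne
    obtain ⟨b, hb, hba⟩ : ∃ b ∈ P, b ∉ Subgroup.zpowers a := by
      by_contra hc
      push Not at hc
      have h1 : Nat.card P ≤ Nat.card (Subgroup.zpowers a) :=
        Nat.card_le_card_of_injective _ (Subgroup.inclusion_injective hc)
      rw [hP, Nat.card_zpowers, orderOf_eq_prime (hexp a ha) ha1, pow_two] at h1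
      have : p * 1 < p * p := Nat.mul_lt_mul_of_pos_left hp.out.one_lt hp0
      omega
    have hb1 : b ≠ 1 := fun h => hba (h ▸ one_mem _)
    letI : CommGroup K := { (inferInstance : Group K) with mul_comm := fun x y => hab.is_comm.comm x y }
    let c : G → K →* K := fun x => ((MulAut.conjNormal x : MulAut K) : K →* K)
    have hcval : ∀ (x : G) (k : K), (c x k : G) = x * (k : G) * x⁻¹ := fun x k => MulAut.conjNormal_apply _ _
    have hcmul : ∀ (x y : G) (k : K), c (x * y) k = c x (c y k) := fun x y k => by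
      refine Subtype.ext ?_
      rw [hcval, hcval, hcval]
      group
    have hnorm : ∀ x ∈ P, x ≠ 1 → ∀ k : K, ∏ i ∈ Finset.range p, c (x ^ i) k = 1 := by
      intro x hx hx1 k
      set N := ∏ i ∈ Finset.range p, c (x ^ i) k with hN
      have hfix : c x N = N := by
        rw [hN, map_prod]
        have h1 := Finset.prod_range_succ' (fun i => c (x ^ i) k) p
        rw [Finset.prod_range_succ, hexp x hx, pow_zero] at h1
        have h2 : ∀ i, c x (c (x ^ i) k) = c (x ^ (i + 1)) k := fun i => by rw [← hcmul, ← pow_succ']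
        simp only [h2]
        exact (mul_right_cancel h1).symm
      by_contra hN1
      refine hall x hx hx1 (N : G) N.2 (fun h => hN1 (Subtype.ext h)) ?_
      have h3 : x * (N : G) * x⁻¹ = N := by rw [← hcval, hfix]
      conv_rhs => rw [← h3]
      group
    obtain ⟨k1, hk1, hk11⟩ := K.bot_or_exists_ne_one.resolve_left hne
    set k : K := ⟨k1, hk1⟩
    have hab' : Commute a b := hPc a ha b hb
    have hsum : ∏ j ∈ Finset.range p, ∏ i ∈ Finset.range p, c ((a * b ^ j) ^ i) k = 1 := by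
      refine Finset.prod_eq_one fun j _ => hnorm _ (P.mul_mem ha (P.pow_mem hb j)) (fun h => ?_) k
      refine hba ?_
      by_cases hj : (p : ℕ) ∣ j
      · obtain ⟨d, rfl⟩ := hj
        rw [pow_mul, hexp b hb, one_pow, mul_one] at h
        exact absurd h ha1
      · have h2 : b ^ j ∈ Subgroup.zpowers a := by
          rw [show b ^ j = a⁻¹ by rw [eq_inv_iff_mul_eq_one, (hab'.symm.pow_left j).eq]; exact h]
          exact inv_mem (Subgroup.mem_zpowers a)
        obtain ⟨e, -, he⟩ := Nat.exists_mul_mod_eq_of_coprime 1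
          ((hp.out.coprime_iff_not_dvd.2 hj).symm) hp.out.ne_zero
        have h3 : (b ^ j) ^ e = b := by
          rw [← pow_mul, pow_eq_pow_mod _ (hexp b hb), he, ← pow_eq_pow_mod _ (hexp b hb), pow_one]
        exact h3 ▸ pow_mem h2 e
    rw [Finset.prod_comm] at hsum
    have hterm : ∀ i ∈ Finset.range p, i ≠ 0 →
        ∏ j ∈ Finset.range p, c ((a * b ^ j) ^ i) k = 1 := by
      intro i hi hi0
      have hbi : b ^ i ≠ 1 := fun h => by
        have h2 := orderOf_dvd_of_pow_eq_one h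
        rw [orderOf_eq_prime (hexp b hb) hb1] at h2
        exact absurd (Nat.le_of_dvd (by omega) h2) (not_le.2 (Finset.mem_range.1 hi))
      calc ∏ j ∈ Finset.range p, c ((a * b ^ j) ^ i) k
          = ∏ j ∈ Finset.range p, c (a ^ i) (c ((b ^ i) ^ j) k) := by
            refine Finset.prod_congr rfl fun j _ => ?_
            rw [(hab'.pow_right j).mul_pow, hcmul, ← pow_mul, ← pow_mul, mul_comm j]
        _ = 1 := by rw [← map_prod, hnorm _ (P.pow_mem hb i) hbi, map_one]
    rw [Finset.prod_eq_single 0 hterm (fun h => absurd (Finset.mem_range.2 hp0) h)] at hsum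
    have hc1 : c 1 k = k := Subtype.ext (by rw [hcval]; group)
    simp only [pow_zero, hc1, Finset.prod_const, Finset.card_range] at hsum
    exact hpK (orderOf_eq_prime (congrArg Subtype.val hsum) hk11 ▸
      Subgroup.orderOf_dvd_natCard _ hk1)
  -- every element of `K` is fixed by some nontrivial element of `P`
  have hevery : ∀ k ∈ K, ∃ a ∈ P, a ≠ 1 ∧ a * k = k * a := by
    intro k hk
    rcases eq_or_ne k 1 with rfl | hk1
    · exact ⟨a0, ha0, ha01, by rw [one_mul, mul_one]⟩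
    obtain ⟨g, rfl⟩ := isConj_iff.1 (hKconj k0 hk0 k hk hk01 hk1)
    obtain ⟨y, hy, hy1, hyk⟩ := hact g a0 ha0 ha01
    refine ⟨y, hy, hy1, ?_⟩
    have h1 := hyk _ hk
    have h2 : g * a0 * g⁻¹ * (g * k0 * g⁻¹) * (g * a0 * g⁻¹)⁻¹ = g * k0 * g⁻¹ := by
      calc _ = g * (a0 * k0 * a0⁻¹) * g⁻¹ := by group
        _ = _ := by rw [hak0, mul_inv_cancel_right]
    rw [h2] at h1
    calc y * (g * k0 * g⁻¹) = y * (g * k0 * g⁻¹) * y⁻¹ * y := by group
      _ = g * k0 * g⁻¹ * y := by rw [← h1]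
  obtain ⟨k2, hk2, hk2n⟩ := hnone a0 ha0 ha01
  obtain ⟨b, hb, hb1, hbk2⟩ := hevery k2 hk2
  obtain ⟨c, hc, hc1, hck⟩ := hevery (k0 * k2) (K.mul_mem hk0 hk2)
  have hba : b ∉ Subgroup.zpowers a0 := fun h => by
    obtain ⟨i, hi⟩ := Subgroup.mem_zpowers_iff.1 (hz a0 ha0 b hb ha01 hb1 h)
    exact hk2n (hi ▸ ((show Commute b k2 from hbk2).zpow_left i).eq)
  -- the commutator of `c` and `k0`
  set w := c * k0 * c⁻¹ * k0⁻¹ with hw
  have hwK : w ∈ K := K.mul_mem (Subgroup.Normal.conj_mem inferInstance k0 hk0 c) (K.inv_mem hk0)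
  have hw2 : w = k2 * (c * k2 * c⁻¹)⁻¹ := by
    have h1 : c * k0 * c⁻¹ * (c * k2 * c⁻¹) = k0 * k2 := by
      calc _ = c * (k0 * k2) * c⁻¹ := by group
        _ = _ := by rw [hck, mul_inv_cancel_right]
    have hA := Subgroup.Normal.conj_mem (inferInstance : K.Normal) k0 hk0 c
    have hB := Subgroup.Normal.conj_mem (inferInstance : K.Normal) k2 hk2 c
    rw [hw, eq_mul_inv_of_mul_eq h1, hKc _ (K.mul_mem (K.mul_mem hk0 hk2) (K.inv_mem hB)) _
      (K.inv_mem hk0)]
    group
  have hwa : a0 * w = w * a0 := by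
    have h1 : Commute a0 c := hPc a0 ha0 c hc
    exact ((((h1.mul_right hak0).mul_right h1.inv_right)).mul_right (show Commute a0 k0 from hak0).inv_right).eq
  have hwb : b * w = w * b := by
    rw [hw2]
    have h1 : Commute b c := hPc b hb c hc
    exact ((show Commute b k2 from hbk2).mul_right
      (((h1.mul_right hbk2).mul_right h1.inv_right).inv_right)).eq
  have hck0 : c * k0 = k0 * c := by
    have h1 := hgen w hwK a0 ha0 b hb ha01 hba hwa hwb
    rwa [hw, mul_inv_eq_one, mul_inv_eq_iff_eq_mul] at h1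
  by_cases hca : c ∈ Subgroup.zpowers a0
  · have hck2 : Commute c k2 := by
      have := (show Commute c k0 from hck0).inv_right.mul_right (show Commute c (k0 * k2) from hck)
      simpa using this
    obtain ⟨i, hi⟩ := Subgroup.mem_zpowers_iff.1 (hz a0 ha0 c hc ha01 hc1 hca)
    exact hk2n (hi ▸ (hck2.zpow_left i).eq)
  · exact hk01 (hgen k0 hk0 a0 ha0 c hc ha01 hca hak0 hck0)

end Cfsg.Agent.Lib.TransClasses53
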