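import Cfsg.Agent.Lib.Chars.PrimitiveTwo
import Cfsg.Agent.Lib.TransKGV94.Spec
import Cfsg.Agent.Lib.TransClasses53.ClassBound

/-!
# Class numbers in dimension two
-/

set_option autoImplicit false

namespace Cfsg.Agent.Lib.TransClasses53

open Cfsg.Agent.Lib.SolvLinear

universe u v

variable {q : ℕ} [hqf : Fact q.Prime] {V : Type v} [AddCommGroup V] [Module (ZMod q) V] [Finite V]
  [Nontrivial V] {G : Type u} [Group G] [Finite G] {ρ : G →* (V ≃ₗ[ZMod q] V)}

/-- A transitive group of order `|V| - 1` fixes no nonzero vector. -/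
theorem eq_one_of_fixed (ht : IsVecTransitive ρ) (hcard : Nat.card G + 1 = Nat.card V)
    {g : G} {w : V} (hw : w ≠ 0) (hg : ρ g w = w) : g = 1 := by
  classical
  let f : G → {x : V // x ≠ 0} := fun y => ⟨ρ y w, fun h => hw ((ρ y).map_eq_zero_iff.1 h)⟩
  have hs : Function.Surjective f := fun x => by
    obtain ⟨y, hy⟩ := ht w x hw x.2
    exact ⟨y, Subtype.ext hy⟩
  have hc : Nat.card G = Nat.card {x : V // x ≠ 0} := by
    have h1 : Nat.card {x : V // x ≠ 0} = Nat.card V - 1 := by
      show Nat.card ↥({(0 : V)}ᶜ : Set V) = _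
      rw [Nat.card_coe_set_eq, Set.ncard_compl, Set.ncard_singleton]
    omega
  refine (hs.bijective_of_nat_card_le hc.le).1 (Subtype.ext ?_)
  show ρ g w = ρ 1 w
  rw [hg, map_one]
  rfl

/-- A transitive group of order `|V| - 1` in odd characteristic has a central involution. -/
theorem two_dvd_center (hρ : Function.Injective ρ) (ht : IsVecTransitive ρ)
    (hcard : Nat.card G + 1 = Nat.card V) (h2 : 2 ∣ Nat.card G) :
    2 ∣ Nat.card (Subgroup.center G) := by
  haveI : Fact (Nat.Prime 2) := ⟨Nat.prime_two⟩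
  obtain ⟨t, ht2⟩ := exists_prime_orderOf_dvd_card' (G := G) 2 h2
  have htt : t ^ 2 = 1 := ht2 ▸ pow_orderOf_eq_one t
  have ht1 : t ≠ 1 := fun h => by simp [h] at ht2
  have hneg : ∀ v, ρ t v = -v := by
    intro v
    by_contra hne
    refine ht1 (eq_one_of_fixed ht hcard (w := v + ρ t v) ?_ ?_)
    · intro h
      exact hne (eq_neg_of_add_eq_zero_right h)
    · rw [map_add, ← LinearEquiv.mul_apply, ← map_mul, ← pow_two, htt, map_one, add_comm]
      rfl
  have htc : t ∈ Subgroup.center G := Subgroup.mem_center_iff.2 fun g => hρ <| LinearEquiv.ext fun v => by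
    rw [map_mul, map_mul, LinearEquiv.mul_apply, LinearEquiv.mul_apply, hneg, hneg, map_neg]
  exact ht2 ▸ Subgroup.orderOf_dvd_natCard _ htc

/-- The arithmetic of the three index cases. -/
theorem index_numeric {p i c k : ℕ} (hp : p.Prime) (h5 : 5 ≤ p) (hi : i = 12 ∨ i = 24 ∨ i = 60)
    (hpi : ¬ p ∣ i) (hc0 : 0 < c) (hdvd : p ^ 2 - 1 ∣ c * i) (hk : k < p)
    (hreg : c * i = p ^ 2 - 1 → 2 ∣ c) (hb : 10 * i * c ≤ 3 * i * k + 6 * c) :
    p = 11 ∧ i = 60 ∧ c = 2 := by
  have hle := Nat.le_of_dvd (by rcases hi with rfl | rfl | rfl <;> omega) hdvd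
  obtain ⟨m, rfl⟩ : ∃ m, p = m + 1 := ⟨p - 1, by omega⟩
  rw [show (m + 1) ^ 2 - 1 = m * (m + 2) by
    rw [show (m + 1) ^ 2 = m * (m + 2) + 1 by ring, Nat.add_sub_cancel]] at hdvd hle hreg
  rcases hi with rfl | rfl | rfl
  · nlinarith
  · have hm : m ≤ 5 := by nlinarith
    interval_cases m
    all_goals try omega
    all_goals try (norm_num at hp)
  · have hm : m ≤ 17 := by nlinarith
    interval_cases m
    all_goals try omega
    all_goals try (norm_num at hp)
    all_goals have hc : c ≤ 5 := by omega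
    all_goals interval_cases c
    all_goals first
      | exact ⟨rfl, rfl, rfl⟩
      | omega

/-- Few classes in dimension two: the group has order 120 in characteristic 11. -/
theorem classes_two (hL : TransKGV94.LiftStmt.{u, v}) (hρ : Function.Injective ρ)
    (ht : IsVecTransitive ρ) (hq : ¬ q ∣ Nat.card G) (hns : ¬ IsSemilinear ρ) (h5 : 5 ≤ q)
    (hn : Module.finrank (ZMod q) V = 2) (hk : Nat.card (ConjClasses G) < q) :
    q = 11 ∧ Nat.card G = 120 ∧ ¬ Group.IsSolvable G := by
  classical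
  haveI : Finite (Module.End (ZMod q) V) :=
    Finite.of_injective (fun f : Module.End (ZMod q) V => ⇑f) DFunLike.coe_injective
  have hdeg : ∀ A : Subgroup G, A.Normal → IsMulCommutative A → degree ρ A = 1 := by
    intro A hAn hA
    haveI := hAn
    have h1 := degree_lt_of_not_semilinear ht hns A hA
    have h2 := degree_pos ht A hA
    omega
  have hcen : ∀ A : Subgroup G, A.Normal → IsMulCommutative A → A ≤ Subgroup.center G := by
    intro A hAn hA a ha
    haveI := hAn
    haveI : Finite (alg ρ A ≃ₐ[ZMod q] alg ρ A) :=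
      Finite.of_injective (fun e : alg ρ A ≃ₐ[ZMod q] alg ρ A => ⇑e) DFunLike.coe_injective
    haveI : Subsingleton (alg ρ A ≃ₐ[ZMod q] alg ρ A) :=
      Finite.card_le_one_iff_subsingleton.1 ((card_aut_le ht A hA).trans (hdeg A hAn hA).le)
    exact Subgroup.mem_center_iff.2 fun g => (conjAut_eq_one_iff hρ A g).1 (Subsingleton.elim _ _) a ha
  have hdvd : q ^ 2 - 1 ∣ Nat.card G := hn ▸ pow_sub_one_dvd_card ht
  have hq21 : q - 1 < q ^ 2 - 1 := by
    have : 2 * q ≤ q ^ 2 := by rw [pow_two]; exact Nat.mul_le_mul_right _ (by omega)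
    omega
  have hnab : ¬ IsMulCommutative G := by
    intro hab
    have hT : IsMulCommutative (⊤ : Subgroup G) :=
      ⟨⟨fun a b => Subtype.ext (hab.is_comm.comm (a : G) b)⟩⟩
    have h1 := natCard_dvd_degree ht ⊤ hT hρ
    rw [hdeg ⊤ inferInstance hT, pow_one, Subgroup.card_top] at h1
    have := Nat.le_of_dvd (by omega) (hdvd.trans h1)
    omega
  have hirr : ∀ W : Submodule (ZMod q) V, (∀ g : G, ∀ w ∈ W, ρ g w ∈ W) → W = ⊥ ∨ W = ⊤ := by
    intro W hW
    by_contra hc
    push Not at hc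
    obtain ⟨w, hw, hw0⟩ := (Submodule.ne_bot_iff _).1 hc.1
    refine hc.2 (eq_top_iff.2 fun x _ => ?_)
    rcases eq_or_ne x 0 with rfl | hx
    · exact W.zero_mem
    · obtain ⟨g, rfl⟩ := ht w x hw0 hx
      exact hW g w hw
  have hlin : LinearIndependent (ZMod q) (fun i : Fin 1 => endHom ρ 1 ^ (i : ℕ)) := by
    rw [linearIndependent_unique_iff]
    intro h
    obtain ⟨w, hw⟩ := exists_ne (0 : V)
    exact hw (by simpa using LinearMap.congr_fun h w)
  obtain ⟨m, R, hm0, hm, hR, hRinj⟩ := hL ρ hρ hq hirr 1 (one_mem _) 1 hlin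
  rw [hn, mul_one] at hm
  obtain rfl : m = 2 := by
    by_contra hne
    obtain rfl : m = 1 := by omega
    refine hnab ⟨⟨fun a b => hRinj ?_⟩⟩
    have key : ∀ T : Module.End ℂ (Fin 1 → ℂ), ∀ x, T x = T (fun _ => 1) 0 • x := by
      intro T x
      have hx : x = x 0 • (fun _ => (1 : ℂ)) := funext fun j => by
        obtain rfl : j = 0 := Subsingleton.elim _ _
        simp
      conv_lhs => rw [hx]
      rw [map_smul]
      funext j
      obtain rfl : j = 0 := Subsingleton.elim _ _
      simp [mul_comm]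
    refine LinearMap.ext fun x => ?_
    rw [map_mul, map_mul, Module.End.mul_apply, Module.End.mul_apply, key (R a), key (R b) x,
      key (R b) (R a x), key (R a) x, smul_smul, smul_smul, mul_comm]
  have hf : ∀ g, R g = 1 → g = 1 := fun g hg => hRinj (by rw [hg, map_one])
  have hab : ∀ g : G, g ∉ Subgroup.center G →
      ∀ x ∈ Subgroup.centralizer {g}, ∀ y ∈ Subgroup.centralizer {g}, x * y = y * x :=
    fun g hg => (Chars.centralizer_facts R hf hg).1
  have hi := Chars.index_center_cases (by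
      by_contra! hall
      exact hnab ⟨⟨fun x y => Subgroup.mem_center_iff.mp (hall y) x⟩⟩) hab
    (fun g hg => (Chars.centralizer_facts R hf hg).2) fun g hg hnorm =>
      hg (hcen _ hnorm ⟨⟨fun x y => Subtype.ext (hab g hg x x.2 y y.2)⟩⟩
        (Subgroup.mem_centralizer_singleton_iff.2 rfl))
  set i := (Subgroup.center G).index with hidef
  set c := Nat.card (Subgroup.center G) with hcdef
  have hci : c * i = Nat.card G := Subgroup.card_mul_index _
  have hb := classes_ge_of_index (i := i) rfl (by omega) hab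
    fun g hg => (Chars.centralizer_facts R hf hg).2
  obtain ⟨hq11, hi60, hc2⟩ := index_numeric hqf.out h5 hi
    (fun h => hq (h.trans (hci ▸ Dvd.intro_left _ rfl))) Nat.card_pos (hci ▸ hdvd) hk
    (fun h => two_dvd_center hρ ht (by
      rw [← hci, h, card_eq_pow (q := q) (V := V), hn]
      omega) (hci ▸ h ▸ Dvd.dvd.trans (by
        rcases hqf.out.eq_two_or_odd with h' | h'
        · omega
        · have : (q ^ 2) % 2 = 1 := by rw [Nat.pow_mod, h']
          omega) dvd_rfl)) hb
  have h120 : Nat.card G = 120 := by rw [← hci, hi60]; omega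
  refine ⟨hq11, h120, fun hsol => ?_⟩
  haveI := hsol
  obtain ⟨D, hD, hne, hDc, hCd, -, -, -⟩ := exists_classTwo_two hρ ht hns hn
  haveI := hD.normal
  haveI : Fact (Nat.Prime 2) := ⟨Nat.prime_two⟩
  haveI : Fact (Nat.Prime 5) := ⟨by norm_num⟩
  set ZD := D ⊓ Subgroup.centralizer (D : Set G) with hZD
  have hD8 : Nat.card D = 8 := by
    obtain ⟨j, hj⟩ := IsPGroup.iff_card.1 (hD.isPGroup.to_le (show ZD ≤ D from inf_le_left))
    have h10 : Nat.card ZD ∣ 10 := by
      refine (Subgroup.card_dvd_of_le inf_le_right).trans (hCd.trans ?_)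
      rw [hq11]
    have hj1 : j ≤ 1 := by
      by_contra hj'
      have : 2 ^ 2 ∣ 10 := (pow_dvd_pow 2 (by omega)).trans (hj ▸ h10)
      omega
    interval_cases j
    · exfalso
      refine hne fun x hx => ?_
      have h4 : Nat.card D = 2 ^ 2 := by rw [hDc, hj]; norm_num
      exact Subgroup.mem_centralizer_iff.2 fun y hy =>
        congrArg Subtype.val (IsPGroup.commutative_of_card_eq_prime_sq h4 ⟨y, hy⟩ ⟨x, hx⟩)
    · rw [hDc, hj]; norm_num
  obtain ⟨x, hx⟩ := exists_prime_orderOf_dvd_card' (G := G) 5 (by rw [h120]; norm_num)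
  have hxc : x ∉ Subgroup.center G := fun h => by
    have := hx ▸ Subgroup.orderOf_dvd_natCard _ h
    have h2 : 5 ∣ 2 := hc2 ▸ this
    omega
  have hP : IsPGroup 5 (Subgroup.zpowers x) := IsPGroup.of_card (n := 1) (by
    rw [Nat.card_zpowers, hx, pow_one])
  letI : MulAction (Subgroup.zpowers x) D := MulAction.compHom D
    (((MulAut.conjNormal : G →* MulAut D)).comp (Subgroup.zpowers x).subtype)
  have hfix : Nat.card (MulAction.fixedPoints (Subgroup.zpowers x) D) =
      Nat.card ↥(D ⊓ Subgroup.centralizer ({x} : Set G)) := by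
    refine Nat.card_congr
      { toFun := fun d => ⟨(d.1 : G), d.1.2, Subgroup.mem_centralizer_singleton_iff.2 ?_⟩
        invFun := fun d => ⟨⟨d, d.2.1⟩, fun z => ?_⟩
        left_inv := fun d => rfl
        right_inv := fun d => rfl }
    · have h1 : x * ((d.1 : D) : G) * x⁻¹ = ((d.1 : D) : G) := by
        rw [← MulAut.conjNormal_apply]
        exact congrArg Subtype.val (d.2 ⟨x, Subgroup.mem_zpowers x⟩)
      conv_lhs => rw [← h1]
      group
    · refine Subtype.ext ?_
      show ((MulAut.conjNormal (z : G) (⟨d, d.2.1⟩ : D) : D) : G) = d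
      rw [MulAut.conjNormal_apply]
      obtain ⟨k, hk'⟩ := Subgroup.mem_zpowers_iff.1 z.2
      rw [← hk', ((show Commute x (d : G) from
        (Subgroup.mem_centralizer_singleton_iff.1 d.2.2).symm).zpow_left k).eq, mul_inv_cancel_right]
  have hmod := hP.card_modEq_card_fixedPoints D
  rw [hfix, hD8] at hmod
  obtain ⟨j, hj, hj'⟩ := (Nat.dvd_prime_pow Nat.prime_two).1
    ((show (8 : ℕ) = 2 ^ 3 by norm_num) ▸ hD8 ▸
      Subgroup.card_dvd_of_le (inf_le_left : D ⊓ Subgroup.centralizer ({x} : Set G) ≤ D))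
  have hDx : D ≤ Subgroup.centralizer ({x} : Set G) := by
    have h8 : Nat.card ↥(D ⊓ Subgroup.centralizer ({x} : Set G)) = 8 := by
      rw [hj'] at hmod ⊢
      interval_cases j <;> simp [Nat.ModEq] at hmod ⊢
    have := Subgroup.eq_of_le_of_card_ge (inf_le_left : D ⊓ Subgroup.centralizer ({x} : Set G) ≤ D)
      (by rw [h8, hD8])
    exact inf_eq_left.1 this
  exact hne fun a ha => Subgroup.mem_centralizer_iff.2 fun b hb => hab x hxc b (hDx hb) a (hDx ha)

end Cfsg.Agent.Lib.TransClasses53
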