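import Cfsg.Agent.Lib.TransClasses53.ClassBound
import Cfsg.Agent.S2325

/-!
# Extensions of `SL(2, 5)` by an abelian group with one nontrivial class
-/

set_option autoImplicit false

namespace Cfsg.Agent.Lib.TransClasses53

universe u

/-- `SL(2, 5)`. -/
abbrev SL25 : Type := Matrix.SpecialLinearGroup (Fin 2) (ZMod 5)

instance : Fact (Nat.Prime 5) := ⟨by norm_num⟩

theorem natCard_SL25 : Nat.card SL25 = 120 := by
  rw [Nat.card_eq_fintype_card]; decide +kernel

theorem classes_SL25 : Nat.card (ConjClasses SL25) = 9 := by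
  rw [Cfsg.Agent.S2325.result (F := ZMod 5) (by rw [ZMod.card]; decide), ZMod.card]

/-- An element of order five conjugate to its inverse. -/
theorem exists_five : ∃ u w : SL25, u ^ 5 = 1 ∧ u ≠ 1 ∧ w * u * w⁻¹ = u⁻¹ := by
  refine ⟨⟨!![1, 1; 0, 1], by simp [Matrix.det_fin_two]⟩,
    ⟨!![2, 0; 0, 3], by rw [Matrix.det_fin_two]; decide⟩, ?_, fun h => ?_, ?_⟩
  · decide +kernel
  · have h1 := congrArg (fun m : SL25 => m.1 0 1) h
    simp at h1
  · decide +kernel

/-- The central involution. -/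
theorem exists_central : ∃ z : SL25, z ^ 2 = 1 ∧ z ≠ 1 ∧ ∀ x, z * x = x * z := by
  refine ⟨⟨!![-1, 0; 0, -1], by simp [Matrix.det_fin_two]⟩, ?_, fun h => ?_, fun x => ?_⟩
  · decide +kernel
  · have h1 := congrArg (fun m : SL25 => m.1 0 0) h
    simp at h1
    exact absurd h1 (by decide)
  · have e : (!![-1, 0; 0, -1] : Matrix (Fin 2) (Fin 2) (ZMod 5)) = -1 := by decide +kernel
    apply Subtype.ext
    show (!![-1, 0; 0, -1] : Matrix (Fin 2) (Fin 2) (ZMod 5)) * x.1 = x.1 * !![-1, 0; 0, -1]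
    rw [e]
    simp

theorem numeric_orders {N : ℕ} (h1 : 1 < N) (h5 : N % 5 = 1) (h3 : N % 3 = 1) (h2 : N % 2 = 1)
    (hdvd : N - 1 ∣ 120) : N = 31 ∨ N = 61 ∨ N = 121 := by
  have hle := Nat.le_of_dvd (by norm_num) hdvd
  obtain ⟨j, hj⟩ : 30 ∣ N - 1 := by omega
  have hj4 : j ≤ 4 := by omega
  rw [hj] at hdvd
  interval_cases j <;> omega

variable {X : Type u} [Group X] [Finite X]

/-- Fixed points in `K` of an element whose `s`-th power centralises `K`. -/
theorem card_modEq_centralizer (K : Subgroup X) [K.Normal] {s : ℕ} [Fact s.Prime] (g : X)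
    (hg : ∀ k ∈ K, g ^ s * k = k * g ^ s) :
    Nat.card K ≡ Nat.card ↥(K ⊓ Subgroup.centralizer ({g} : Set X)) [MOD s] := by
  have hφ : (MulAut.conjNormal g : MulAut K) ^ s = 1 := by
    rw [← map_pow]
    refine MulEquiv.ext fun k => Subtype.ext ?_
    rw [MulAut.conjNormal_apply, hg k k.2, mul_inv_cancel_right]
    rfl
  have hP : IsPGroup s (Subgroup.zpowers (MulAut.conjNormal g : MulAut K)) := by
    intro y
    refine ⟨1, ?_⟩
    obtain ⟨j, hj⟩ := Subgroup.mem_zpowers_iff.1 y.2
    refine Subtype.ext ?_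
    rw [Subgroup.coe_pow, ← hj, pow_one, Subgroup.coe_one, ← zpow_natCast, ← zpow_mul, mul_comm,
      zpow_mul, zpow_natCast, hφ, one_zpow]
  suffices he : Nat.card (MulAction.fixedPoints (Subgroup.zpowers (MulAut.conjNormal g : MulAut K)) K)
      = Nat.card ↥(K ⊓ Subgroup.centralizer ({g} : Set X)) from
    he ▸ hP.card_modEq_card_fixedPoints K
  refine Nat.card_congr
    { toFun := fun d => ⟨(d.1 : X), d.1.2, Subgroup.mem_centralizer_singleton_iff.2 ?_⟩
      invFun := fun d => ⟨⟨d, d.2.1⟩, fun z => ?_⟩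
      left_inv := fun d => rfl
      right_inv := fun d => rfl }
  · have h1 : g * ((d.1 : K) : X) * g⁻¹ = ((d.1 : K) : X) := by
      rw [← MulAut.conjNormal_apply]
      exact congrArg Subtype.val (d.2 ⟨_, Subgroup.mem_zpowers _⟩)
    conv_lhs => rw [← h1]
    group
  · have hfix : MulAut.conjNormal g ∈ MulAction.stabilizer (MulAut K) (⟨d, d.2.1⟩ : K) := by
      refine Subtype.ext ?_
      show ((MulAut.conjNormal g (⟨d, d.2.1⟩ : K) : K) : X) = d
      rw [MulAut.conjNormal_apply, ← Subgroup.mem_centralizer_singleton_iff.1 d.2.2,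
        mul_inv_cancel_right]
    exact (Subgroup.zpowers_le.2 hfix) z.2

/-- A preimage with the same prime order. -/
theorem exists_lift_pow_eq_one {Y : Type*} [Group Y] (f : X →* Y) (hf : Function.Surjective f)
    {s : ℕ} (hs : s.Prime) (hK : ¬ s ∣ Nat.card f.ker) {y : Y} (hy : y ^ s = 1) :
    ∃ g : X, f g = y ∧ g ^ s = 1 := by
  obtain ⟨g, rfl⟩ := hf y
  obtain ⟨n, -, hn⟩ := Nat.exists_mul_mod_eq_of_coprime 1
    ((hs.coprime_iff_not_dvd.2 hK).symm : (Nat.card f.ker).Coprime s) hs.ne_zero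
  refine ⟨g ^ (Nat.card f.ker * n), ?_, ?_⟩
  · rw [map_pow, pow_eq_pow_mod _ hy, hn, ← pow_eq_pow_mod _ hy, pow_one]
  · have h1 : g ^ s ∈ f.ker := by rw [MonoidHom.mem_ker, map_pow, hy]
    have h2 : (g ^ s) ^ Nat.card f.ker = 1 :=
      congrArg Subtype.val (pow_card_eq_one' (x := (⟨g ^ s, h1⟩ : f.ker)))
    rw [← pow_mul, show Nat.card f.ker * n * s = s * Nat.card f.ker * n by ring, pow_mul, pow_mul, h2,
      one_pow]

set_option maxHeartbeats 800000 in
/-- Such an extension has at least eleven classes. -/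
theorem extension_classes (π : X →* SL25) (hπ : Function.Surjective π)
    (hne : π.ker ≠ ⊥) (hab : IsMulCommutative π.ker) (h11 : ¬ 11 ∣ Nat.card π.ker)
    (hconj : ∀ a ∈ π.ker, ∀ b ∈ π.ker, a ≠ 1 → b ≠ 1 → IsConj a b) :
    11 ≤ Nat.card (ConjClasses X) := by
  classical
  by_contra hlt
  set K := π.ker with hK
  -- every nontrivial class of the quotient has one preimage class
  have hfib : ∀ g g' : X, π g = π g' → π g ≠ 1 → IsConj g g' := by
    intro g g' he h1
    by_contra hnc
    apply hlt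
    have : Fintype SL25 := Fintype.ofFinite _
    obtain ⟨k, hk, hk1⟩ : ∃ k ∈ K, k ≠ 1 := K.bot_or_exists_ne_one.resolve_left hne
    let sec : ConjClasses SL25 → ConjClasses X := fun d =>
      if d = ConjClasses.mk 1 then ConjClasses.mk 1
      else if d = ConjClasses.mk (π g) then ConjClasses.mk g
      else Function.surjInv (ConjClasses.map_surjective hπ) d
    have hsec : ∀ d, ConjClasses.map π (sec d) = d := by
      intro d
      dsimp only [sec]
      split_ifs with h h'
      · rw [h]; exact congrArg ConjClasses.mk (map_one π)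
      · rw [h']; rfl
      · exact Function.surjInv_eq _ d
    have h11' : Nat.card (ConjClasses SL25 ⊕ Fin 2) = 11 := by
      rw [Nat.card_sum, classes_SL25, Nat.card_fin]
    rw [← h11']
    refine Nat.card_le_card_of_injective (Sum.elim sec ![ConjClasses.mk k, ConjClasses.mk g']) ?_
    have hone : ConjClasses.map π (ConjClasses.mk k) = ConjClasses.mk 1 :=
      congrArg ConjClasses.mk (MonoidHom.mem_ker.1 hk)
    have hg' : ConjClasses.map π (ConjClasses.mk g') = ConjClasses.mk (π g) :=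
      congrArg ConjClasses.mk he.symm
    have hne1 : ConjClasses.mk (π g) ≠ ConjClasses.mk 1 := fun h =>
      h1 (isConj_one_right.1 (ConjClasses.mk_eq_mk_iff_isConj.1 h).symm)
    have hk' : ∀ d, sec d ≠ ConjClasses.mk k := by
      intro d hd
      have h2 : d = ConjClasses.mk 1 := by rw [← hsec d, hd, hone]
      dsimp only [sec] at hd
      rw [if_pos h2] at hd
      exact hk1 (isConj_one_right.1 (ConjClasses.mk_eq_mk_iff_isConj.1 hd))
    have hgn : ∀ d, sec d ≠ ConjClasses.mk g' := by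
      intro d hd
      have h2 : d = ConjClasses.mk (π g) := by rw [← hsec d, hd, hg']
      dsimp only [sec] at hd
      rw [if_neg (h2 ▸ hne1), if_pos h2] at hd
      exact hnc (ConjClasses.mk_eq_mk_iff_isConj.1 hd)
    have hkg : ConjClasses.mk k ≠ ConjClasses.mk g' := fun h => hne1 (by rw [← hg', ← h, hone])
    rintro (d | i) (d' | j) hij
    · simp only [Sum.elim_inl] at hij
      rw [← hsec d, hij, hsec]
    · fin_cases j
      · exact absurd hij (hk' d)
      · exact absurd hij (hgn d)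
    · fin_cases i
      · exact absurd hij.symm (hk' d')
      · exact absurd hij.symm (hgn d')
    · fin_cases i <;> fin_cases j <;> first | rfl | exact absurd hij hkg | exact absurd hij.symm hkg
  -- centralisers have the same order as in the quotient
  have hcard : Nat.card X = Nat.card K * 120 := by
    rw [← natCard_SL25, ← Subgroup.card_mul_index K]
    congr 1
    rw [hK, Subgroup.index_ker, MonoidHom.range_eq_top.2 hπ, Subgroup.card_top]
  have hcent : ∀ g : X, π g ≠ 1 → Nat.card ↥(Subgroup.centralizer ({g} : Set X)) =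
      Nat.card ↥(Subgroup.centralizer ({π g} : Set SL25)) := by
    intro g hg
    have h1 : (ConjClasses.mk g).carrier = π ⁻¹' (ConjClasses.mk (π g)).carrier := by
      ext y
      simp only [Set.mem_preimage, ConjClasses.mem_carrier_iff_mk_eq]
      refine ⟨fun h => congrArg (ConjClasses.map π) h, fun h => ?_⟩
      obtain ⟨w, hw⟩ := isConj_iff.1 (ConjClasses.mk_eq_mk_iff_isConj.1 h.symm)
      obtain ⟨v, rfl⟩ := hπ w
      refine ConjClasses.mk_eq_mk_iff_isConj.2 (IsConj.symm ?_)
      refine (isConj_iff.2 ⟨v, rfl⟩ : IsConj g (v * g * v⁻¹)).trans ?_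
      refine hfib _ _ (by rw [map_mul, map_mul, map_inv, hw]) ?_
      rw [map_mul, map_mul, map_inv]
      exact fun h' => hg (conj_eq_one_iff.1 h')
    have h2 : Nat.card (ConjClasses.mk g).carrier =
        Nat.card K * Nat.card (ConjClasses.mk (π g)).carrier := by
      let sec := Function.surjInv hπ
      have hsec : ∀ s, π (sec s) = s := Function.surjInv_eq hπ
      rw [h1, ← Nat.card_prod]
      let e : K × (ConjClasses.mk (π g)).carrier ≃ ↥(π ⁻¹' (ConjClasses.mk (π g)).carrier) :=
        { toFun := fun kd => ⟨(kd.1 : X) * sec kd.2.1, by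
            show π ((kd.1 : X) * sec kd.2.1) ∈ (ConjClasses.mk (π g)).carrier
            rw [map_mul, MonoidHom.mem_ker.1 kd.1.2, one_mul, hsec]
            exact kd.2.2⟩
          invFun := fun y => (⟨(y : X) * (sec (π y))⁻¹, by
            show π ((y : X) * (sec (π y))⁻¹) = 1
            rw [map_mul, map_inv, hsec, mul_inv_cancel]⟩, ⟨π y, y.2⟩)
          left_inv := fun kd => by
            have h3 : π ((kd.1 : X) * sec kd.2.1) = kd.2.1 := by
              rw [map_mul, MonoidHom.mem_ker.1 kd.1.2, one_mul, hsec]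
            refine Prod.ext (Subtype.ext ?_) (Subtype.ext h3)
            show (kd.1 : X) * sec kd.2.1 * (sec (π ((kd.1 : X) * sec kd.2.1)))⁻¹ = kd.1
            rw [h3, mul_inv_cancel_right]
          right_inv := fun y => Subtype.ext (inv_mul_cancel_right _ _) }
      exact (Nat.card_congr e).symm
    have h3 := carrier_mul_centralizer g
    have h4 := carrier_mul_centralizer (π g)
    rw [natCard_SL25] at h4
    rw [h2, hcard, ← h4, mul_assoc] at h3
    have h5 := Nat.eq_of_mul_eq_mul_left (Nat.card_pos (α := K)) h3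
    refine Nat.eq_of_mul_eq_mul_left ?_ h5
    have : Nonempty (ConjClasses.mk (π g)).carrier := ⟨⟨π g, ConjClasses.mem_carrier_mk⟩⟩
    exact Nat.card_pos
  -- the kernel is elementary abelian of prime exponent
  obtain ⟨k0, hk0, hk01⟩ : ∃ k ∈ K, k ≠ 1 := K.bot_or_exists_ne_one.resolve_left hne
  set r := (orderOf k0).minFac with hr
  have hrp : r.Prime := Nat.minFac_prime (by simpa [orderOf_eq_one_iff] using hk01)
  haveI : Fact r.Prime := ⟨hrp⟩
  have hexp : ∀ k ∈ K, k ^ r = 1 := by
    intro k hk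
    rcases eq_or_ne k 1 with rfl | hk1
    · rw [one_pow]
    obtain ⟨y, hy⟩ := exists_prime_orderOf_dvd_card' (G := K) r
      ((Nat.minFac_dvd _).trans (Subgroup.orderOf_dvd_natCard _ hk0))
    obtain ⟨w, hw⟩ := isConj_iff.1 (hconj (y : X) y.2 k hk (fun h => by
      rw [← Subgroup.orderOf_coe, h, orderOf_one] at hy
      exact hrp.ne_one hy.symm) hk1)
    rw [← hw, conj_pow, ← Subgroup.coe_pow, ← hy, pow_orderOf_eq_one]
    simp
  have hKr : IsPGroup r K := fun k => ⟨1, Subtype.ext (by simpa using hexp k k.2)⟩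
  obtain ⟨m, hm⟩ := IsPGroup.iff_card.1 hKr
  have hK1 : 1 < Nat.card K := by
    have : Nontrivial K := (Subgroup.nontrivial_iff_ne_bot K).2 hne
    exact Finite.one_lt_card
  have hm0 : m ≠ 0 := fun h => by rw [h, pow_zero] at hm; omega
  have hr11 : r ≠ 11 := fun h => h11 (by rw [hm, h]; exact dvd_pow_self 11 hm0)
  -- elements of prime order prime to `r` act without fixed points
  have hfpf : ∀ (s : ℕ) (y : SL25), s.Prime → s ≠ r → y ^ s = 1 → y ≠ 1 →
      ∃ g : X, π g = y ∧ g ^ s = 1 ∧ K ⊓ Subgroup.centralizer ({g} : Set X) = ⊥ := by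
    intro s y hs hsr hy hy1
    have hsK : ¬ s ∣ Nat.card K := fun h =>
      hsr ((Nat.prime_dvd_prime_iff_eq hs hrp).1 (hs.dvd_of_dvd_pow (hm ▸ h)))
    obtain ⟨g, hgy, hgs⟩ := exists_lift_pow_eq_one π hπ hs hsK hy
    refine ⟨g, hgy, hgs, eq_bot_iff.2 ?_⟩
    rintro k ⟨hk, hkc⟩
    have hgk : π (g * k) = π g := by rw [map_mul, MonoidHom.mem_ker.1 hk, mul_one]
    obtain ⟨w, hw⟩ := isConj_iff.1 (hfib g (g * k) hgk.symm (hgy ▸ hy1))
    have hks : k ^ s = 1 := by
      have h1 : (g * k) ^ s = 1 := by rw [← hw, conj_pow, hgs, mul_one, mul_inv_cancel]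
      rwa [(show Commute g k from (Subgroup.mem_centralizer_singleton_iff.1 hkc).symm).mul_pow,
        hgs, one_mul] at h1
    rw [Subgroup.mem_bot]
    have hg : Nat.gcd s r = 1 := (Nat.coprime_primes hs hrp).2 hsr
    simpa [hg] using pow_gcd_eq_one.2 ⟨hks, hexp k hk⟩
  have hmod : ∀ (s : ℕ) (y : SL25), s.Prime → s ≠ r → y ^ s = 1 → y ≠ 1 → Nat.card K % s = 1 := by
    intro s y hs hsr hy hy1
    haveI : Fact s.Prime := ⟨hs⟩
    obtain ⟨g, -, hgs, hbot⟩ := hfpf s y hs hsr hy hy1
    have h1 := card_modEq_centralizer K (s := s) g (fun k _ => by rw [hgs, one_mul, mul_one])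
    rw [hbot, Subgroup.card_bot] at h1
    rw [h1, Nat.one_mod_eq_one.2 hs.ne_one]
  -- an element of order `r` gives `r ^ 2` in its centraliser
  have hsq : ∀ y : SL25, y ^ r = 1 → y ≠ 1 → r * r ∣ 120 := by
    intro y hy hy1
    obtain ⟨g, rfl⟩ := hπ y
    have h1 := card_modEq_centralizer K (s := r) g (fun k hk => by
      have hgK : g ^ r ∈ K := by rw [hK, MonoidHom.mem_ker, map_pow, hy]
      exact congrArg Subtype.val (hab.is_comm.comm ⟨_, hgK⟩ ⟨k, hk⟩))
    set C := Subgroup.centralizer ({g} : Set X) with hC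
    have hrF : r ∣ Nat.card ↥(K ⊓ C) :=
      (Nat.ModEq.dvd_iff h1 dvd_rfl).1 (hm ▸ dvd_pow_self r hm0)
    have hker : Nat.card (π.comp C.subtype).ker = Nat.card ↥(K ⊓ C) :=
      Nat.card_congr
        { toFun := fun x => ⟨((x : C) : X), x.2, (x : C).2⟩
          invFun := fun x => ⟨⟨x, x.2.2⟩, x.2.1⟩
          left_inv := fun x => rfl
          right_inv := fun x => rfl }
    have hran : r ∣ Nat.card (π.comp C.subtype).range := by
      have hmem : π g ∈ (π.comp C.subtype).range :=
        ⟨⟨g, Subgroup.mem_centralizer_singleton_iff.2 rfl⟩, rfl⟩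
      exact orderOf_eq_prime hy hy1 ▸ Subgroup.orderOf_dvd_natCard _ hmem
    have hC' := (π.comp C.subtype).ker.card_mul_index
    rw [Subgroup.index_ker] at hC'
    calc r * r ∣ Nat.card (π.comp C.subtype).ker * Nat.card (π.comp C.subtype).range :=
          mul_dvd_mul (hker ▸ hrF) hran
      _ = Nat.card C := hC'
      _ = Nat.card ↥(Subgroup.centralizer ({π g} : Set SL25)) := hcent g hy1
      _ ∣ 120 := natCard_SL25 ▸ Subgroup.card_subgroup_dvd_card _
  obtain ⟨u, w, hu, hu1, huw⟩ := exists_five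
  obtain ⟨z, hz, hz1, hzc⟩ := exists_central
  obtain ⟨t, ht⟩ : ∃ t : SL25, orderOf t = 3 := by
    haveI : Fact (Nat.Prime 3) := ⟨Nat.prime_three⟩
    exact exists_prime_orderOf_dvd_card' 3 (by rw [natCard_SL25]; norm_num)
  have ht3 : t ^ 3 = 1 := ht ▸ pow_orderOf_eq_one t
  have ht1 : t ≠ 1 := fun h => by simp [h] at ht
  have hr5 : r ≠ 5 := fun h => by
    have := hsq u (by rw [h]; exact hu) hu1
    rw [h] at this; omega
  have hr3 : r ≠ 3 := fun h => by
    have := hsq t (by rw [h]; exact ht3) ht1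
    rw [h] at this; omega
  have h5 := hmod 5 u (by norm_num) (Ne.symm hr5) hu hu1
  by_cases hr2 : r = 2
  · -- `K` centralises a preimage of the central involution
    obtain ⟨g, rfl⟩ := hπ z
    haveI : (K ⊓ Subgroup.centralizer ({g} : Set X)).Normal := by
      refine ⟨fun k hk x => ⟨Subgroup.Normal.conj_mem inferInstance k hk.1 x, ?_⟩⟩
      show x * k * x⁻¹ ∈ Subgroup.centralizer ({g} : Set X)
      rw [Subgroup.mem_centralizer_singleton_iff]
      have hd : g⁻¹ * (x⁻¹ * g * x) ∈ K := by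
        rw [hK, MonoidHom.mem_ker, map_mul, map_mul, map_mul, map_inv, map_inv, mul_assoc (π x)⁻¹,
          hzc, ← mul_assoc (π x)⁻¹, inv_mul_cancel, one_mul, inv_mul_cancel]
      have h1 : Commute k g := Subgroup.mem_centralizer_singleton_iff.1 hk.2
      have h2 : Commute k (g⁻¹ * (x⁻¹ * g * x)) :=
        congrArg Subtype.val (hab.is_comm.comm ⟨k, hk.1⟩ ⟨_, hd⟩)
      have h3 : Commute k (x⁻¹ * g * x) := by
        simpa [← mul_assoc] using h1.mul_right h2
      calc x * k * x⁻¹ * g = x * (k * (x⁻¹ * g * x)) * x⁻¹ := by group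
        _ = x * ((x⁻¹ * g * x) * k) * x⁻¹ := by rw [h3.eq]
        _ = g * (x * k * x⁻¹) := by group
    have hKc : K ≤ Subgroup.centralizer ({g} : Set X) := by
      intro k hk
      rcases eq_or_ne k 1 with rfl | hk1
      · exact one_mem _
      have h1 := card_modEq_centralizer K (s := 2) g (fun k hk => by
        have hgK : g ^ 2 ∈ K := by rw [hK, MonoidHom.mem_ker, map_pow, hz]
        exact congrArg Subtype.val (hab.is_comm.comm ⟨_, hgK⟩ ⟨k, hk⟩))
      have h2 : K ⊓ Subgroup.centralizer ({g} : Set X) ≠ ⊥ := fun h => by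
        rw [h, Subgroup.card_bot] at h1
        have : (2 : ℕ) ∣ Nat.card K := hm ▸ hr2 ▸ dvd_pow_self r hm0
        unfold Nat.ModEq at h1
        omega
      obtain ⟨k1, hk1m, hk11⟩ := (Subgroup.bot_or_exists_ne_one _).resolve_left h2
      obtain ⟨x, hx⟩ := isConj_iff.1 (hconj k1 hk1m.1 k hk hk11 hk1)
      rw [← hx]
      exact (Subgroup.Normal.conj_mem inferInstance k1 hk1m x).2
    have h120 : Nat.card K ∣ 120 := by
      refine (Subgroup.card_dvd_of_le hKc).trans ?_
      rw [hcent g hz1, ← natCard_SL25]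
      exact Subgroup.card_subgroup_dvd_card _
    rw [hr2] at hm
    have hm3 : m ≤ 3 := by
      by_contra h
      have h16 : 2 ^ 4 ∣ 120 := (pow_dvd_pow 2 (show 4 ≤ m by omega)).trans (hm ▸ h120)
      omega
    rw [hm] at h5
    interval_cases m
    all_goals first
      | exact absurd rfl hm0
      | norm_num at h5
  have h2 := hmod 2 z Nat.prime_two (Ne.symm hr2) hz hz1
  have h3 := hmod 3 t Nat.prime_three (Ne.symm hr3) ht3 ht1
  -- the orbit of `k0` has size dividing `120`
  have hdvd : Nat.card K - 1 ∣ 120 := by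
    have hcar : (ConjClasses.mk k0).carrier = (K : Set X) \ {1} := by
      ext y
      rw [ConjClasses.mem_carrier_iff_mk_eq, ConjClasses.mk_eq_mk_iff_isConj, Set.mem_sdiff,
        Set.mem_singleton_iff, SetLike.mem_coe]
      refine ⟨fun h => ?_, fun h => hconj y h.1 k0 hk0 h.2 hk01⟩
      obtain ⟨v, hv⟩ := isConj_iff.1 h.symm
      rw [← hv]
      exact ⟨Subgroup.Normal.conj_mem inferInstance k0 hk0 v, fun h1 => hk01 (conj_eq_one_iff.1 h1)⟩
    have h1 : Nat.card (ConjClasses.mk k0).carrier = Nat.card K - 1 := by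
      rw [Nat.card_coe_set_eq, hcar, Set.ncard_sdiff_singleton_of_mem K.one_mem]
      rfl
    have hle : K ≤ Subgroup.centralizer ({k0} : Set X) := fun k hk =>
      Subgroup.mem_centralizer_singleton_iff.2
        (congrArg Subtype.val (hab.is_comm.comm ⟨k, hk⟩ ⟨k0, hk0⟩))
    obtain ⟨e, he⟩ := Subgroup.card_dvd_of_le hle
    refine Dvd.intro e ?_
    apply Nat.eq_of_mul_eq_mul_left (Nat.card_pos (α := K))
    rw [← hcard, ← carrier_mul_centralizer k0, h1, he]
    ring
  have hcases := numeric_orders hK1 h5 h3 h2 hdvd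
  have hprime : (Nat.card K).Prime := by
    rcases hcases with h | h | h <;> rw [h]
    · norm_num
    · norm_num
    · exfalso
      have : r ∣ 11 ^ 2 := by
        rw [show (11 : ℕ) ^ 2 = Nat.card K by rw [h]; norm_num, hm]
        exact dvd_pow_self r hm0
      exact hr11 ((Nat.prime_dvd_prime_iff_eq hrp (by norm_num)).1 (hrp.dvd_of_dvd_pow this))
  -- the automorphisms of a group of prime order commute
  haveI : Fact (Nat.card K).Prime := ⟨hprime⟩
  haveI : IsCyclic K := isCyclic_of_prime_card rfl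
  have hcomm : ∀ a b : MulAut K, a * b = b * a := fun a b => by
    apply (IsCyclic.mulAutMulEquiv K).injective.eq_iff.1
    rw [map_mul, map_mul, mul_comm]
  obtain ⟨g, hgu, hg5, hgbot⟩ := hfpf 5 u (by norm_num) (Ne.symm hr5) hu hu1
  obtain ⟨v, hv⟩ := hπ w
  set φ : MulAut K := MulAut.conjNormal g with hφ
  have h5φ : φ ^ 5 = 1 := by rw [hφ, ← map_pow, hg5, map_one]
  have hinv : φ = φ⁻¹ := by
    have hd : g * (v * g * v⁻¹) ∈ K := by
      rw [hK, MonoidHom.mem_ker, map_mul, map_mul, map_mul, map_inv, hv, hgu, huw, mul_inv_cancel]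
    have h1 : (MulAut.conjNormal (g * (v * g * v⁻¹)) : MulAut K) = 1 :=
      MulEquiv.ext fun k => Subtype.ext (by
        rw [MulAut.conjNormal_apply]
        have := congrArg Subtype.val (hab.is_comm.comm ⟨_, hd⟩ k)
        simp only [Subgroup.coe_mul] at this
        rw [this, mul_inv_cancel_right]
        rfl)
    rw [map_mul, map_mul, map_mul, map_inv, hcomm (MulAut.conjNormal v) (MulAut.conjNormal g),
      mul_inv_cancel_right] at h1
    exact eq_inv_of_mul_eq_one_left h1
  have hφ1 : φ = 1 := by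
    have h2φ : φ ^ 2 = 1 := by rw [pow_two]; exact (congrArg (· * φ) hinv).trans (inv_mul_cancel φ)
    calc φ = φ ^ 5 * ((φ ^ 2) ^ 2)⁻¹ := by group
      _ = 1 := by rw [h5φ, h2φ]; simp
  have : k0 ∈ K ⊓ Subgroup.centralizer ({g} : Set X) := by
    refine ⟨hk0, Subgroup.mem_centralizer_singleton_iff.2 ?_⟩
    have h1 : g * k0 * g⁻¹ = k0 := by
      have := congrArg (fun f : MulAut K => ((f ⟨k0, hk0⟩ : K) : X)) hφ1
      simp only [MulAut.conjNormal_apply, hφ] at this
      simpa using this
    conv_lhs => rw [← h1]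
    group
  rw [hgbot, Subgroup.mem_bot] at this
  exact hk01 this

end Cfsg.Agent.Lib.TransClasses53
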