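import Cfsg.Agent.Lib.TransClasses53.Semi
import Cfsg.Agent.Lib.TransClasses53.DimTwo
import Cfsg.Agent.S0689

/-!
# The linear group on a self-centralising elementary abelian normal Sylow subgroup
-/

set_option autoImplicit false

namespace Cfsg.Agent.Lib.TransClasses53

open Cfsg.Agent.Lib.SolvLinear

universe u v

/-- In dimension one the group is cyclic of order `p - 1`. -/
theorem dim_one {p : ℕ} [hp : Fact p.Prime] {W : Type v} [AddCommGroup W] [Module (ZMod p) W]
    [Finite W] [Nontrivial W] {H : Type u} [Group H] [Finite H] {ρ : H →* (W ≃ₗ[ZMod p] W)}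
    (hρ : Function.Injective ρ) (ht : IsVecTransitive ρ) (hn : Module.finrank (ZMod p) W = 1) :
    Nat.card H = p - 1 ∧ Nat.card (ConjClasses H) = p - 1 := by
  classical
  obtain ⟨w, hw⟩ := exists_ne (0 : W)
  have hall : ∀ x : W, ∃ c : ZMod p, c • w = x := (finrank_eq_one_iff_of_nonzero' w hw).1 hn
  have hlin : ∀ a b : H, ρ a w = ρ b w → a = b := by
    intro a b h
    refine hρ (LinearEquiv.ext fun x => ?_)
    obtain ⟨c, rfl⟩ := hall x
    rw [map_smul, map_smul, h]
  have hcomm : ∀ a b : H, a * b = b * a := by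
    intro a b
    refine hlin _ _ ?_
    obtain ⟨c, hc⟩ := hall (ρ a w)
    obtain ⟨d, hd⟩ := hall (ρ b w)
    rw [map_mul, map_mul, LinearEquiv.mul_apply, LinearEquiv.mul_apply, ← hd, map_smul, ← hc,
      map_smul, ← hd, smul_smul, smul_smul, mul_comm]
  have hW : Nat.card W = p := by rw [card_eq_pow (q := p) (V := W), hn, pow_one]
  let f : H → {x : W // x ≠ 0} := fun a => ⟨ρ a w, fun h => hw ((ρ a).map_eq_zero_iff.1 h)⟩
  have hbij : Function.Bijective f := ⟨fun a b h => hlin a b (congrArg Subtype.val h), fun x => by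
    obtain ⟨a, ha⟩ := ht w x hw x.2
    exact ⟨a, Subtype.ext ha⟩⟩
  have hH : Nat.card H = p - 1 := by
    rw [Nat.card_congr (Equiv.ofBijective f hbij)]
    show Nat.card ↥({(0 : W)}ᶜ : Set W) = _
    rw [Nat.card_coe_set_eq, Set.ncard_compl, Set.ncard_singleton, hW]
  refine ⟨hH, ?_⟩
  rw [← hH]
  refine (Nat.card_congr (Equiv.ofBijective ConjClasses.mk ⟨fun a b h => ?_,
    fun c => c.exists_rep⟩)).symm
  obtain ⟨x, hx⟩ := isConj_iff.1 (ConjClasses.mk_eq_mk_iff_isConj.1 h)
  rw [← hx, hcomm x a, mul_inv_cancel_right]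

/-- Few classes: dimension one, or `SL(2, 5)` in dimension two over the field of order `11`. -/
theorem linear_cases (hC : TransKGV94.ClassifyStmt.{u, v}) (hL : TransKGV94.LiftStmt.{u, v})
    {p : ℕ} [hp : Fact p.Prime] {W : Type v} [AddCommGroup W] [Module (ZMod p) W]
    [Finite W] [Nontrivial W] {H : Type u} [Group H] [Finite H] (ρ : H →* (W ≃ₗ[ZMod p] W))
    (hρ : Function.Injective ρ) (ht : IsVecTransitive ρ) (hpH : ¬ p ∣ Nat.card H) :
    p ≤ Nat.card (ConjClasses H) ∨
      (Nat.card W = p ∧ Nat.card H = p - 1 ∧ Nat.card (ConjClasses H) = p - 1) ∨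
      (p = 11 ∧ Nat.card W = 121 ∧
        Nonempty (H ≃* Matrix.SpecialLinearGroup (Fin 2) (ZMod 5))) := by
  classical
  have hn0 : 0 < Module.finrank (ZMod p) W := Module.finrank_pos
  by_cases hn1 : Module.finrank (ZMod p) W = 1
  · obtain ⟨h1, h2⟩ := dim_one hρ ht hn1
    exact Or.inr (Or.inl ⟨by rw [card_eq_pow (q := p) (V := W), hn1, pow_one], h1, h2⟩)
  by_cases hk : p ≤ Nat.card (ConjClasses H)
  · exact Or.inl hk
  have hcard := Nat.le_of_dvd Nat.card_pos (pow_sub_one_dvd_card ht)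
  have hp2 := hp.out.two_le
  have hsq : p ^ 2 ≤ p ^ Module.finrank (ZMod p) W := Nat.pow_le_pow_right hp.out.pos (by omega)
  have h4 : 2 * 2 ≤ p ^ 2 := by rw [pow_two]; exact Nat.mul_le_mul hp2 hp2
  have h3 := three_le_card_conjClasses (G := H) (by omega)
  have h5 : 5 ≤ p := by
    by_contra h
    have h' : p = 4 := by omega
    rw [h'] at hp
    exact absurd hp.out (by norm_num)
  have hns : ¬ IsSemilinear ρ := fun h => hk (classes_semilinear hρ ht h h5 (by omega))
  have hn2 : Module.finrank (ZMod p) W = 2 := by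
    by_contra hne
    rcases hC ρ hρ ht hpH (by omega) with h | ⟨hq, -, -⟩
    · exact hns h
    · omega
  obtain ⟨hp11, hH, hsol⟩ := classes_two hL hρ ht hpH hns h5 hn2 (by omega)
  have hW : Nat.card W = 121 := by
    rw [card_eq_pow (q := p) (V := W), hn2, hp11]; norm_num
  refine Or.inr (Or.inr ⟨hp11, hW, ?_⟩)
  let e := MonoidHom.ofInjective hρ
  haveI : Finite ρ.range := Finite.of_equiv H e.toEquiv
  have hreg : ∀ x y : W, x ≠ 0 → y ≠ 0 → ∃! h : ρ.range, (h : W ≃ₗ[ZMod p] W) x = y := by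
    intro x y hx hy
    obtain ⟨g, hg⟩ := ht x y hx hy
    refine ⟨e g, hg, fun h hh => ?_⟩
    obtain ⟨g', rfl⟩ := e.surjective h
    have h1 : ρ (g⁻¹ * g') x = x := by
      rw [map_mul, map_inv, LinearEquiv.mul_apply,
        show ρ g' x = ρ g x from hh.trans hg.symm]
      exact (ρ g).symm_apply_apply x
    have h2 := eq_one_of_fixed ht (by rw [hH, hW]) hx h1
    rw [inv_mul_eq_one] at h2
    rw [h2]
  have hsol' : ¬ Group.IsSolvable ρ.range := fun h => hsol
    (haveI := h; Group.isSolvable_of_isSolvable_injective (f := e.toMonoidHom) e.injective)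
  rcases Cfsg.Agent.S0689.result ρ.range hreg hsol' with ⟨-, ⟨f⟩⟩ | ⟨h, -⟩ | ⟨h, -⟩
  · exact ⟨e.trans f⟩
  · omega
  · omega

/-- A family of additive automorphisms as a linear representation. -/
def toLinear {p : ℕ} {A : Type v} [AddCommGroup A] [Module (ZMod p) A] {M : Type u} [Monoid M]
    (f : M → A ≃+ A) (hf : ∀ a b x, f (a * b) x = f a (f b x)) : M →* (A ≃ₗ[ZMod p] A) :=
  MonoidHom.mk' (fun a => AddEquiv.toLinearEquiv (f a) fun c x => ZMod.map_smul (f a) c x)
    fun a b => LinearEquiv.ext fun x => by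
      rw [LinearEquiv.mul_apply]
      exact hf a b x

/-- The cases for a self-centralising normal elementary abelian Sylow subgroup with fused
elements. -/
theorem quotient_cases (hC : TransKGV94.ClassifyStmt.{u, u}) (hL : TransKGV94.LiftStmt.{u, u})
    {X : Type u} [Group X] [Finite X] {p : ℕ} [hp : Fact p.Prime] (V : Subgroup X) [V.Normal]
    (hne : V ≠ ⊥) (hexp : ∀ v ∈ V, v ^ p = 1) (hidx : ¬ p ∣ V.index)
    (hcent : Subgroup.centralizer (V : Set X) = V)
    (htr : ∀ v ∈ V, ∀ w ∈ V, v ≠ 1 → w ≠ 1 → IsConj v w) :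
    p ≤ Nat.card (ConjClasses (X ⧸ V)) ∨
      (Nat.card V = p ∧ V.index = p - 1 ∧ Nat.card (ConjClasses (X ⧸ V)) = p - 1) ∨
      (p = 11 ∧ Nat.card V = 121 ∧
        Nonempty ((X ⧸ V) ≃* Matrix.SpecialLinearGroup (Fin 2) (ZMod 5))) := by
  classical
  have hVc : ∀ a b : V, a * b = b * a := fun a b =>
    Subtype.ext (Subgroup.mem_centralizer_iff.1 (hcent.ge b.2) a a.2)
  letI : CommGroup V := { (inferInstance : Group V) with mul_comm := hVc }
  haveI : Nontrivial V := (Subgroup.nontrivial_iff_ne_bot V).2 hne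
  have hsmul : ∀ x : Additive V, p • x = 0 := fun x => by
    apply Additive.toMul.injective
    show (Additive.toMul x) ^ p = 1
    exact Subtype.ext (hexp _ (Additive.toMul x).2)
  have : Module (ZMod p) (Additive V) := AddCommGroup.zmodModule hsmul
  let lin : MulAut V →* (Additive V ≃ₗ[ZMod p] Additive V) :=
    toLinear (p := p) (fun f : MulAut V => MulEquiv.toAdditive f) fun _ _ _ => rfl
  have hle : V ≤ (lin.comp (MulAut.conjNormal : X →* MulAut V)).ker := by
    intro v hv
    refine LinearEquiv.ext fun x => Additive.toMul.injective (Subtype.ext ?_)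
    show ((MulAut.conjNormal v (Additive.toMul x) : V) : X) = ((Additive.toMul x : V) : X)
    rw [MulAut.conjNormal_apply]
    have h1 : v * ((Additive.toMul x : V) : X) = ((Additive.toMul x : V) : X) * v :=
      congrArg Subtype.val (hVc ⟨v, hv⟩ (Additive.toMul x))
    rw [h1, mul_inv_cancel_right]
  let ρ := QuotientGroup.lift V (lin.comp (MulAut.conjNormal : X →* MulAut V)) hle
  have hρv : ∀ (g : X) (x : Additive V),
      ((Additive.toMul (ρ (g : X ⧸ V) x) : V) : X) = g * (Additive.toMul x : V) * g⁻¹ :=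
    fun g x => MulAut.conjNormal_apply _ _
  have hρ : Function.Injective ρ := by
    rw [injective_iff_map_eq_one]
    intro q hq
    obtain ⟨g, rfl⟩ := QuotientGroup.mk_surjective q
    rw [QuotientGroup.eq_one_iff]
    refine hcent.le (Subgroup.mem_centralizer_iff.2 fun v hv => ?_)
    have h1 := hρv g (Additive.ofMul ⟨v, hv⟩)
    rw [hq] at h1
    change v = g * v * g⁻¹ at h1
    conv_lhs => rw [h1]
    group
  have ht : IsVecTransitive ρ := by
    intro x y hx hy
    have hne' : ∀ z : Additive V, z ≠ 0 → ((Additive.toMul z : V) : X) ≠ 1 := fun z hz h =>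
      hz (Additive.toMul.injective (Subtype.ext h))
    obtain ⟨g, hg⟩ := isConj_iff.1 (htr _ (Additive.toMul x).2 _ (Additive.toMul y).2
      (hne' x hx) (hne' y hy))
    exact ⟨(g : X ⧸ V), Additive.toMul.injective (Subtype.ext ((hρv g x).trans hg))⟩
  have hidx' : ¬ p ∣ Nat.card (X ⧸ V) := by rwa [← Subgroup.index_eq_card]
  have hVA : Nat.card (Additive V) = Nat.card V := Nat.card_congr Additive.toMul
  rw [Subgroup.index_eq_card, ← hVA]
  exact linear_cases hC hL ρ hρ ht hidx'

end Cfsg.Agent.Lib.TransClasses53
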