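import Cfsg.Agent.Lib.TransClasses53.ClassBound
import Cfsg.Agent.Lib.PSolvable.HallHigman
import Cfsg.Prelude.Def_Perm
import Cfsg.Prelude.Def_Solvable

/-!
# `p`-solvable groups with one class of nontrivial `p`-elements
-/

set_option autoImplicit false

namespace Cfsg.Agent.Lib.TransClasses53

open Cfsg Cfsg.Agent.Lib.PSolvable
open scoped Pointwise

universe u v

/-- All nontrivial `p`-elements are conjugate. -/
def OneClass (p : ℕ) (G : Type u) [Group G] : Prop :=
  ∀ x y : G, x ≠ 1 → y ≠ 1 → (∃ k : ℕ, orderOf x = p ^ k) → (∃ k : ℕ, orderOf y = p ^ k) → IsConj x y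

theorem isPElement_of_pow_eq_one {G : Type u} [Group G] {p k : ℕ} (hp : p.Prime) {x : G}
    (hx : x ^ p ^ k = 1) : ∃ j : ℕ, orderOf x = p ^ j := by
  obtain ⟨j, -, hj⟩ := (Nat.dvd_prime_pow hp).1 (orderOf_dvd_of_pow_eq_one hx)
  exact ⟨j, hj⟩

/-- The hypothesis passes to quotients. -/
theorem OneClass.map {G : Type u} [Group G] [Finite G] {X : Type v} [Group X] {p : ℕ}
    [hp : Fact p.Prime] (h : OneClass p G) (f : G →* X) (hf : Function.Surjective f) :
    OneClass p X := by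
  have lift : ∀ y : X, (∃ k : ℕ, orderOf y = p ^ k) →
      ∃ g : G, f g = y ∧ ∃ k : ℕ, orderOf g = p ^ k := by
    rintro y ⟨k, hk⟩
    obtain ⟨g, rfl⟩ := hf y
    set m := orderOf g with hm
    have hm0 : m ≠ 0 := (orderOf_pos g).ne'
    have hcop : (ordCompl[p] m).Coprime (p ^ k) :=
      ((Nat.coprime_ordCompl hp.out hm0).symm).pow_right _
    obtain ⟨n, -, hn⟩ := Nat.exists_mul_mod_eq_of_coprime 1 hcop (pow_ne_zero k hp.out.ne_zero)
    refine ⟨g ^ (ordCompl[p] m * n), ?_, isPElement_of_pow_eq_one (k := m.factorization p) hp.out ?_⟩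
    · rw [map_pow, ← pow_mod_orderOf, hk, hn, ← hk, pow_mod_orderOf, pow_one]
    · rw [← pow_mul, show ordCompl[p] m * n * p ^ m.factorization p =
        p ^ m.factorization p * ordCompl[p] m * n by ring, Nat.ordProj_mul_ordCompl_eq_self,
        pow_mul, hm, pow_orderOf_eq_one, one_pow]
  intro x y hx hy hxk hyk
  obtain ⟨a, rfl, ha⟩ := lift x hxk
  obtain ⟨b, rfl, hb⟩ := lift y hyk
  exact f.map_isConj (h a b (fun e => hx (by rw [e, map_one])) (fun e => hy (by rw [e, map_one])) ha hb)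

/-- The top of the group. -/
theorem top_structure {X : Type u} [Group X] [Finite X] {p : ℕ} [hp : Fact p.Prime]
    (hs : IsPSolvable p X) (hdiv : p ∣ Nat.card X) (hcore : pPrimeCore p X = ⊥)
    (hconj : OneClass p X) :
    pCore p X ≠ ⊥ ∧ (∀ v ∈ pCore p X, v ^ p = 1) ∧ ¬ p ∣ (pCore p X).index ∧
      Subgroup.centralizer (pCore p X : Set X) = pCore p X ∧
      (∀ v ∈ pCore p X, ∀ w ∈ pCore p X, v ≠ 1 → w ≠ 1 → IsConj v w) ∧
      (∀ y : X, (∃ k : ℕ, orderOf y = p ^ k) → y ∈ pCore p X) := by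
  haveI : Nontrivial X := Finite.one_lt_card_iff_nontrivial.1
    (lt_of_lt_of_le hp.out.one_lt (Nat.le_of_dvd Nat.card_pos hdiv))
  have hne : pCore p X ≠ ⊥ :=
    (pCore_ne_bot_or_pPrimeCore_ne_bot hs).resolve_right fun h => h hcore
  set V := pCore p X with hV
  have hVp : IsPGroup p V := pCore_isPGroup
  have hpel : ∀ v ∈ V, ∃ k : ℕ, orderOf v = p ^ k := fun v hv => by
    obtain ⟨k, hk⟩ := hVp ⟨v, hv⟩
    exact isPElement_of_pow_eq_one (k := k) hp.out (congrArg Subtype.val hk)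
  have htr : ∀ v ∈ V, ∀ w ∈ V, v ≠ 1 → w ≠ 1 → IsConj v w := fun v hv w hw hv1 hw1 =>
    hconj v w hv1 hw1 (hpel v hv) (hpel w hw)
  obtain ⟨v0, hv0, hv01⟩ := V.bot_or_exists_ne_one.resolve_left hne
  have hall : ∀ y : X, (∃ k : ℕ, orderOf y = p ^ k) → y ∈ V := by
    intro y hy
    rcases eq_or_ne y 1 with rfl | hy1
    · exact V.one_mem
    obtain ⟨g, rfl⟩ := isConj_iff.1 (hconj v0 y hv01 hy1 (hpel v0 hv0) hy)
    exact Subgroup.Normal.conj_mem inferInstance v0 hv0 g
  have hidx : ¬ p ∣ V.index := by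
    let P : Sylow p X := default
    have hPV : (P : Subgroup X) ≤ V := fun y hy => by
      obtain ⟨k, hk⟩ := P.isPGroup' ⟨y, hy⟩
      exact hall y (isPElement_of_pow_eq_one (k := k) hp.out (congrArg Subtype.val hk))
    exact fun h => P.not_dvd_index (h.trans (Subgroup.index_dvd_of_le hPV))
  have hexp : ∀ v ∈ V, v ^ p = 1 := by
    intro v hv
    rcases eq_or_ne v 1 with rfl | hv1
    · rw [one_pow]
    obtain ⟨y, hy⟩ := exists_prime_orderOf_dvd_card' (G := X) p hdiv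
    have hy1 : y ≠ 1 := fun h => by
      rw [h, orderOf_one] at hy
      exact hp.out.ne_one hy.symm
    obtain ⟨g, rfl⟩ := isConj_iff.1 (hconj y v hy1 hv1 ⟨1, by rw [hy, pow_one]⟩ (hpel v hv))
    rw [conj_pow, ← hy, pow_orderOf_eq_one, mul_one, mul_inv_cancel]
  refine ⟨hne, hexp, hidx, le_antisymm ?_ ?_, htr, hall⟩
  · exact centralizer_pCore_le_of_isPSolvable hs hcore
  · haveI : Nontrivial V := (Subgroup.nontrivial_iff_ne_bot V).2 hne
    haveI := hVp.center_nontrivial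
    obtain ⟨⟨z, hz⟩, hz1⟩ := exists_ne (1 : Subgroup.center V)
    have hzc : (z : X) ∈ Subgroup.centralizer (V : Set X) := Subgroup.mem_centralizer_iff.2 fun d hd =>
      congrArg Subtype.val (Subgroup.mem_center_iff.1 hz ⟨d, hd⟩)
    intro v hv
    rcases eq_or_ne v 1 with rfl | hv1
    · exact one_mem _
    obtain ⟨g, hg⟩ := isConj_iff.1 (htr z z.2 v hv
      (fun h => hz1 (Subtype.ext (Subtype.ext h))) hv1)
    rw [← hg]
    exact Subgroup.Normal.conj_mem inferInstance _ hzc g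

/-- The one-dimensional affine group. -/
theorem affine_iso {X : Type u} [Group X] [Finite X] {p : ℕ} [hp : Fact p.Prime] (V : Subgroup X)
    [V.Normal] (hV : Nat.card V = p) (hidx : V.index = p - 1)
    (hcent : Subgroup.centralizer (V : Set X) = V) :
    Nonempty (X ≃* ↥(Cfsg.affineGroup (ZMod p))) := by
  classical
  have hp2 := hp.out.two_le
  obtain ⟨v0, hv0, hv01⟩ : ∃ v ∈ V, v ≠ 1 := V.bot_or_exists_ne_one.resolve_left fun h => by
    rw [h, Subgroup.card_bot] at hV; omega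
  have hexp : ∀ v ∈ V, v ^ p = 1 := fun v hv => by
    have := congrArg Subtype.val (pow_card_eq_one' (x := (⟨v, hv⟩ : V)))
    rwa [hV] at this
  have hcop : (Nat.card V).Coprime V.index := by
    rw [hV, hidx]
    exact hp.out.coprime_iff_not_dvd.2 fun h => by
      have := Nat.le_of_dvd (by omega) h
      omega
  obtain ⟨H, hH⟩ := Subgroup.exists_right_complement'_of_coprime hcop
  have hord : orderOf v0 = p := orderOf_eq_prime (hexp v0 hv0) hv01
  let π : ZMod p → X ⧸ H := fun t => ((v0 ^ t.val : X) : X ⧸ H)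
  have hmem : ∀ v ∈ V, ∃ t : ZMod p, v = v0 ^ t.val := by
    intro v hv
    have hz : Subgroup.zpowers v0 = V := Subgroup.eq_of_le_of_card_ge (Subgroup.zpowers_le.2 hv0)
      (by rw [Nat.card_zpowers, hord, hV])
    obtain ⟨j, rfl⟩ := (mem_powers_iff_mem_zpowers (x := v0)).2 (hz.ge hv)
    exact ⟨(j : ZMod p), by rw [ZMod.val_natCast]; exact (pow_eq_pow_mod j (hexp v0 hv0))⟩
  have hπ : Function.Bijective π := by
    refine ⟨fun a b h => ?_, fun q => ?_⟩
    · rw [QuotientGroup.eq] at h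
      have h1 : (v0 ^ a.val)⁻¹ * v0 ^ b.val = 1 :=
        Subgroup.disjoint_def.1 hH.disjoint (V.mul_mem (V.inv_mem (V.pow_mem hv0 _)) (V.pow_mem hv0 _)) h
      rw [inv_mul_eq_one, pow_inj_mod, hord, Nat.mod_eq_of_lt a.val_lt, Nat.mod_eq_of_lt b.val_lt] at h1
      exact ZMod.val_injective p h1
    · obtain ⟨x, rfl⟩ := QuotientGroup.mk_surjective q
      obtain ⟨⟨v, h⟩, hx⟩ := hH.2 x
      obtain ⟨t, ht⟩ := hmem v v.2
      refine ⟨t, ?_⟩
      rw [QuotientGroup.eq, ← ht, ← hx, inv_mul_cancel_left]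
      exact h.2
  let e : ZMod p ≃ X ⧸ H := Equiv.ofBijective π hπ
  let ψ : X →* Equiv.Perm (ZMod p) :=
    (Equiv.permCongrHom e.symm).toMonoidHom.comp (MulAction.toPermHom X (X ⧸ H))
  have hψ : ∀ x t, π (ψ x t) = ((x * v0 ^ t.val : X) : X ⧸ H) := fun x t => e.apply_symm_apply _
  have hinj : Function.Injective ψ := by
    rw [injective_iff_map_eq_one]
    intro x hx
    have hfix : ∀ v ∈ V, v⁻¹ * x * v ∈ H := by
      intro v hv
      obtain ⟨t, rfl⟩ := hmem v hv
      have h1 := hψ x t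
      rw [hx] at h1
      change ((v0 ^ t.val : X) : X ⧸ H) = _ at h1
      rw [QuotientGroup.eq, ← mul_assoc] at h1
      exact h1
    have hxH : x ∈ H := by simpa using hfix 1 V.one_mem
    have hxc : x ∈ Subgroup.centralizer (V : Set X) := Subgroup.mem_centralizer_iff.2 fun v hv => by
      have h1 : v⁻¹ * (x * v * x⁻¹) ∈ H := by
        rw [show v⁻¹ * (x * v * x⁻¹) = (v⁻¹ * x * v) * x⁻¹ by group]
        exact H.mul_mem (hfix v hv) (H.inv_mem hxH)
      have h2 := Subgroup.disjoint_def.1 hH.disjoint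
        (V.mul_mem (V.inv_mem hv) (Subgroup.Normal.conj_mem inferInstance v hv x)) h1
      rw [inv_mul_eq_one] at h2
      conv_lhs => rw [h2]
      group
    exact Subgroup.disjoint_def.1 hH.disjoint (hcent.le hxc) hxH
  have hrange : ∀ x, ψ x ∈ Cfsg.affineGroup (ZMod p) := by
    intro x
    obtain ⟨a, ha⟩ := hmem _ (Subgroup.Normal.conj_mem inferInstance v0 hv0 x)
    have ha0 : a ≠ 0 := fun h => by
      rw [h, ZMod.val_zero, pow_zero, conj_eq_one_iff] at ha
      exact hv01 ha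
    obtain ⟨⟨v, h⟩, hx⟩ := hH.2 x
    obtain ⟨b, hb⟩ := hmem v v.2
    refine ⟨Units.mk0 a ha0, b, fun t => hπ.1 ?_⟩
    rw [hψ, QuotientGroup.eq]
    have hsum : v0 ^ ((Units.mk0 a ha0 : (ZMod p)ˣ) * t + b : ZMod p).val =
        x * v0 ^ t.val * x⁻¹ * (v : X) := by
      rw [← conj_pow, ha, hb, ← pow_mul, ← pow_add, pow_inj_mod, hord, Units.val_mk0,
        ZMod.val_add, ZMod.val_mul]
      simp [Nat.add_mod]
    rw [hsum, ← hx]
    show (((v : X) * h) * v0 ^ t.val)⁻¹ * (((v : X) * h) * v0 ^ t.val * ((v : X) * h)⁻¹ * v) ∈ H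
    rw [show (((v : X) * h) * v0 ^ t.val)⁻¹ * (((v : X) * h) * v0 ^ t.val * ((v : X) * h)⁻¹ * v) =
      ((h : X))⁻¹ by group]
    exact H.inv_mem h.2
  have hcard : Nat.card ↥(Cfsg.affineGroup (ZMod p)) ≤ Nat.card X := by
    rw [← Subgroup.card_mul_index V, hV, hidx]
    let f : (ZMod p)ˣ × ZMod p → ↥(Cfsg.affineGroup (ZMod p)) := fun ab =>
      ⟨(Units.mulLeft ab.1).trans (Equiv.addRight ab.2), ab.1, ab.2, fun _ => rfl⟩
    have hf : Function.Surjective f := by
      rintro ⟨σ, a, b, h⟩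
      exact ⟨(a, b), Subtype.ext (Equiv.ext fun t => (h t).symm)⟩
    refine (Nat.card_le_card_of_surjective f hf).trans (le_of_eq ?_)
    rw [Nat.card_prod, Nat.card_units, Nat.card_zmod, mul_comm]
  let ψ' : X →* ↥(Cfsg.affineGroup (ZMod p)) := ψ.codRestrict _ hrange
  have hinj' : Function.Injective ψ' := fun a b h => hinj (congrArg Subtype.val h)
  exact ⟨MulEquiv.ofBijective ψ' (hinj'.bijective_of_nat_card_le hcard)⟩

/-- A complement of a normal subgroup that is the centraliser of each of its nontrivial elements. -/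
theorem frobenius_complement {X : Type u} [Group X] [Finite X] {p : ℕ} [hp : Fact p.Prime]
    (V : Subgroup X) [V.Normal] (hne : V ≠ ⊥) (htop : V.index ≠ 1) (hVp : IsPGroup p V)
    (hidx : ¬ p ∣ V.index)
    (hfix : ∀ v ∈ V, v ≠ 1 → Subgroup.centralizer ({v} : Set X) = V) :
    ∃ H : Subgroup X, Cfsg.IsFrobeniusComplement H ∧ Nonempty (H ≃* X ⧸ V) ∧
      Nat.card (PRegClass p X) ≤ Nat.card (ConjClasses (X ⧸ V)) := by
  classical
  obtain ⟨m, hm⟩ := IsPGroup.iff_card.1 hVp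
  have hcop : (Nat.card V).Coprime V.index := by
    rw [hm]
    exact (hp.out.coprime_iff_not_dvd.2 hidx).pow_left m
  obtain ⟨H, hH⟩ := Subgroup.exists_right_complement'_of_coprime hcop
  have hbot : ∀ x ∈ V, x ∈ H → x = 1 := fun x h1 h2 => Subgroup.disjoint_def.1 hH.disjoint h1 h2
  have hfree : ∀ v ∈ V, ∀ h : X, h ∈ H → h * v = v * h → h = 1 ∨ v = 1 := by
    intro v hv h hh hc
    by_cases hv1 : v = 1
    · exact Or.inr hv1
    · exact Or.inl (hbot h ((hfix v hv hv1).le (Subgroup.mem_centralizer_singleton_iff.2 hc)) hh)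
  have hdec : ∀ x : X, ∃ v ∈ V, ∃ h ∈ H, x = v * h := fun x => by
    obtain ⟨⟨v, h⟩, hx⟩ := hH.2 x
    exact ⟨v, v.2, h, h.2, hx.symm⟩
  let f : H →* X ⧸ V := (QuotientGroup.mk' V).comp H.subtype
  have hf : Function.Bijective f := by
    refine ⟨(injective_iff_map_eq_one f).2 fun h hh =>
      Subtype.ext (hbot h ((QuotientGroup.eq_one_iff _).1 hh) h.2), fun q => ?_⟩
    obtain ⟨x, rfl⟩ := QuotientGroup.mk_surjective q
    obtain ⟨v, hv, h, hh, rfl⟩ := hdec x
    refine ⟨⟨h, hh⟩, ?_⟩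
    show ((h : X) : X ⧸ V) = _
    rw [QuotientGroup.mk_mul, (QuotientGroup.eq_one_iff v).2 hv, one_mul]
  have e : H ≃* X ⧸ V := MulEquiv.ofBijective f hf
  refine ⟨H, ⟨fun h => ?_, fun h => ?_, fun g hg => ?_⟩, ⟨e⟩, ?_⟩
  · apply htop
    rw [Subgroup.index_eq_card, ← Nat.card_congr e.toEquiv, h, Subgroup.card_bot]
  · exact hne (eq_bot_iff.2 fun x hx => Subgroup.mem_bot.2 (hbot x hx (h ▸ Subgroup.mem_top x)))
  · rw [eq_bot_iff]
    rintro y ⟨hy, hy'⟩
    obtain ⟨k, hk, rfl⟩ := hy'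
    change g * k * g⁻¹ ∈ H at hy
    show g * k * g⁻¹ ∈ (⊥ : Subgroup X)
    obtain ⟨v, hv, h, hh, rfl⟩ := hdec g
    have hv1 : v ≠ 1 := fun e => hg (by rw [e, one_mul]; exact hh)
    set k' := h * k * h⁻¹ with hk'
    have hk'H : k' ∈ H := H.mul_mem (H.mul_mem hh hk) (H.inv_mem hh)
    have heq : v * h * k * (v * h)⁻¹ = v * k' * v⁻¹ := by rw [hk']; group
    rw [heq] at hy ⊢
    have h1 : v * k' * v⁻¹ * k'⁻¹ = 1 := by
      refine hbot _ ?_ (H.mul_mem hy (H.inv_mem hk'H))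
      rw [mul_assoc, mul_assoc, ← mul_assoc k']
      exact V.mul_mem hv (Subgroup.Normal.conj_mem inferInstance _ (V.inv_mem hv) k')
    rw [mul_inv_eq_one] at h1
    rw [h1, Subgroup.mem_bot]
    exact (hfree v hv k' hk'H (mul_inv_eq_iff_eq_mul.1 h1).symm).resolve_right hv1
  · rw [← Nat.card_congr (Equiv.ofBijective (ConjClasses.map e.toMonoidHom)
      ⟨fun a b => ?_, ConjClasses.map_surjective e.surjective⟩)]
    · have hpH : ∀ h : H, ¬ p ∣ orderOf (h : X) := fun h hd => hidx (by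
        rw [Subgroup.index_eq_card, ← Nat.card_congr e.toEquiv]
        exact hd.trans (Subgroup.orderOf_dvd_natCard _ h.2))
      refine Nat.card_le_card_of_surjective
        (fun c : ConjClasses H => (⟨c.map H.subtype, by
          obtain ⟨h, rfl⟩ := c.exists_rep
          exact ⟨h, rfl, hpH h⟩⟩ : PRegClass p X)) ?_
      rintro ⟨_, x, rfl, hx⟩
      obtain ⟨v, hv, h, hh, rfl⟩ := hdec x
      refine ⟨ConjClasses.mk ⟨h, hh⟩, Subtype.ext (ConjClasses.mk_eq_mk_iff_isConj.2 ?_)⟩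
      show IsConj h (v * h)
      rcases eq_or_ne h 1 with rfl | h1
      · rw [mul_one] at hx ⊢
        rcases eq_or_ne v 1 with rfl | hv1
        · exact IsConj.refl 1
        · exfalso
          obtain ⟨j, hj⟩ := hVp ⟨v, hv⟩
          obtain ⟨i, -, hi⟩ := (Nat.dvd_prime_pow hp.out).1
            (orderOf_dvd_of_pow_eq_one (congrArg Subtype.val hj : v ^ p ^ j = 1))
          rcases Nat.eq_zero_or_pos i with rfl | hi0
          · exact hv1 (orderOf_eq_one_iff.1 (by rw [hi, pow_zero]))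
          · exact hx (hi ▸ dvd_pow_self p hi0.ne')
      let T : V → V := fun u => ⟨(u : X) * (h * (u : X)⁻¹ * h⁻¹),
        V.mul_mem u.2 (Subgroup.Normal.conj_mem inferInstance _ (V.inv_mem u.2) h)⟩
      have hT : Function.Injective T := by
        intro a b hab
        have h2 : (a : X) * (h * (a : X)⁻¹ * h⁻¹) = (b : X) * (h * (b : X)⁻¹ * h⁻¹) :=
          congrArg Subtype.val hab
        have h3 : h * ((a : X)⁻¹ * b) = ((a : X)⁻¹ * b) * h := by
          calc h * ((a : X)⁻¹ * b)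
              = (a : X)⁻¹ * ((a : X) * (h * (a : X)⁻¹ * h⁻¹)) * h * b := by group
            _ = (a : X)⁻¹ * ((b : X) * (h * (b : X)⁻¹ * h⁻¹)) * h * b := by rw [h2]
            _ = ((a : X)⁻¹ * b) * h := by group
        have h4 := (hfree _ (V.mul_mem (V.inv_mem a.2) b.2) h hh h3).resolve_left h1
        exact Subtype.ext (inv_mul_eq_one.1 h4)
      obtain ⟨u, hu⟩ := (Finite.injective_iff_surjective.1 hT) ⟨v, hv⟩
      have hu' : (u : X) * (h * (u : X)⁻¹ * h⁻¹) = v := congrArg Subtype.val hu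
      refine isConj_iff.2 ⟨u, ?_⟩
      rw [← hu']
      group
    · intro hab
      obtain ⟨x, rfl⟩ := a.exists_rep
      obtain ⟨y, rfl⟩ := b.exists_rep
      obtain ⟨c, hc⟩ := isConj_iff.1 (ConjClasses.mk_eq_mk_iff_isConj.1
        (show ConjClasses.mk (e x) = ConjClasses.mk (e y) from hab))
      exact ConjClasses.mk_eq_mk_iff_isConj.2 (isConj_iff.2 ⟨e.symm c, e.injective (by
        rw [map_mul, map_mul, map_inv, e.apply_symm_apply, hc])⟩)

end Cfsg.Agent.Lib.TransClasses53
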