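import Cfsg.Agent.Lib.TransClasses53.Linear
import Cfsg.Agent.Lib.TransClasses53.Structure
import Cfsg.Agent.Lib.TransClasses53.Coprime
import Cfsg.Agent.Lib.TransClasses53.Ext

/-!
# `p`-regular classes of `p`-solvable groups with one class of nontrivial `p`-elements
-/

set_option autoImplicit false

namespace Cfsg.Agent.Lib.TransClasses53

open Cfsg Cfsg.Agent.Lib.PSolvable

universe u

/-- The exceptional top and a nontrivial `p'`-core give at least eleven classes. -/
theorem eleven_of_core {G : Type u} [Group G] [Finite G] (hp : Fact (Nat.Prime 11))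
    (hsolv : IsPSolvable 11 G) (hdiv : 11 ∣ Nat.card G) (hconj : OneClass 11 G)
    (hK : pPrimeCore 11 G ≠ ⊥)
    (hV : Nat.card (pCore 11 (G ⧸ pPrimeCore 11 G)) = 121)
    (hH : Nonempty (((G ⧸ pPrimeCore 11 G) ⧸ pCore 11 (G ⧸ pPrimeCore 11 G)) ≃* SL25)) :
    11 ≤ Nat.card (PRegClass 11 G) := by
  classical
  obtain ⟨e⟩ := hH
  set K := pPrimeCore 11 G with hKdef
  set V := pCore 11 (G ⧸ K) with hVdef
  have hpK : ¬ 11 ∣ Nat.card K := pPrimeCore_not_dvd
  let f : G →* SL25 :=
    e.toMonoidHom.comp ((QuotientGroup.mk' V).comp (QuotientGroup.mk' K))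
  have hf : Function.Surjective f :=
    e.surjective.comp ((QuotientGroup.mk'_surjective V).comp (QuotientGroup.mk'_surjective K))
  have hS : ¬ 11 ∣ Nat.card SL25 := by rw [natCard_SL25]; norm_num
  have hKker : ∀ k ∈ K, f k = 1 := fun k hk => by
    show e (((k : G ⧸ K) : (G ⧸ K) ⧸ V)) = 1
    rw [(QuotientGroup.eq_one_iff k).2 hk]
    exact map_one e
  have hfker : ∀ x : G, f x = 1 → (x : G ⧸ K) ∈ V := fun x hx =>
    (QuotientGroup.eq_one_iff _).1 (e.injective (hx.trans (map_one e).symm))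
  have hpreg : ∀ k ∈ K, ¬ 11 ∣ orderOf k := fun k hk h =>
    hpK (h.trans (Subgroup.orderOf_dvd_natCard _ hk))
  by_cases htwo : ∃ a ∈ K, ∃ b ∈ K, a ≠ 1 ∧ b ≠ 1 ∧ ¬ IsConj a b
  · obtain ⟨a, ha, b, hb, ha1, hb1, hab⟩ := htwo
    have h := classes_add_le (p := 11) f hf hS ![a, b] (fun j => by
      fin_cases j
      · exact ⟨ha1, hKker a ha, hpreg a ha⟩
      · exact ⟨hb1, hKker b hb, hpreg b hb⟩) (fun i j hij => by
      fin_cases i <;> fin_cases j <;> first | rfl | exact absurd hij hab | exact absurd hij.symm hab)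
    rwa [classes_SL25, Nat.card_fin] at h
  push Not at htwo
  -- the core is elementary abelian
  obtain ⟨r, hr, hKr⟩ : ∃ r : ℕ, r.Prime ∧ IsPGroup r K := by
    obtain ⟨k0, hk0, hk01⟩ := K.bot_or_exists_ne_one.resolve_left hK
    set r := (orderOf k0).minFac
    have hr : r.Prime := Nat.minFac_prime (by simpa [orderOf_eq_one_iff] using hk01)
    haveI := Fact.mk hr
    obtain ⟨y, hy⟩ := exists_prime_orderOf_dvd_card' (G := K) r
      ((Nat.minFac_dvd _).trans (Subgroup.orderOf_dvd_natCard _ hk0))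
    refine ⟨r, hr, fun k => ⟨1, Subtype.ext ?_⟩⟩
    rcases eq_or_ne (k : G) 1 with hk1 | hk1
    · simp [hk1]
    obtain ⟨w, hw⟩ := isConj_iff.1 (htwo (y : G) y.2 k k.2 (fun h => by
      rw [← Subgroup.orderOf_coe, h, orderOf_one] at hy
      exact hr.ne_one hy.symm) hk1)
    rw [Subgroup.coe_pow, pow_one, ← hw, conj_pow, ← Subgroup.coe_pow, ← hy, pow_orderOf_eq_one]
    simp
  haveI := Fact.mk hr
  have hKab : IsMulCommutative K := by
    haveI : Nontrivial K := (Subgroup.nontrivial_iff_ne_bot K).2 hK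
    haveI := hKr.center_nontrivial
    obtain ⟨⟨z, hz⟩, hz1⟩ := exists_ne (1 : Subgroup.center K)
    have hzc : (z : G) ∈ Subgroup.centralizer (K : Set G) := Subgroup.mem_centralizer_iff.2 fun d hd =>
      congrArg Subtype.val (Subgroup.mem_center_iff.1 hz ⟨d, hd⟩)
    have hle : ∀ k ∈ K, k ∈ Subgroup.centralizer (K : Set G) := by
      intro k hk
      rcases eq_or_ne k 1 with rfl | hk1
      · exact one_mem _
      obtain ⟨g, hg⟩ := isConj_iff.1 (htwo z z.2 k hk
        (fun h => hz1 (Subtype.ext (Subtype.ext h))) hk1)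
      rw [← hg]
      exact Subgroup.Normal.conj_mem inferInstance _ hzc g
    exact ⟨⟨fun a b => Subtype.ext (Subgroup.mem_centralizer_iff.1 (hle b b.2) a a.2)⟩⟩
  -- a Sylow subgroup
  obtain ⟨hne', hexp', hidx', hcent', -, hall'⟩ := top_structure (isPSolvable_quotient hsolv K)
    (by
      have h := Subgroup.card_mul_index K
      rw [Subgroup.index_eq_card] at h
      exact ((Nat.Coprime.dvd_mul_left ((hp.out.coprime_iff_not_dvd).2 hpK)).1 (h ▸ hdiv)))
    pPrimeCore_quotient_eq_bot (hconj.map (QuotientGroup.mk' K) (QuotientGroup.mk'_surjective K))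
  obtain ⟨P⟩ : Nonempty (Sylow 11 G) := inferInstance
  have hinjP : ∀ x ∈ (P : Subgroup G), (x : G ⧸ K) = 1 → x = 1 := by
    intro x hx h
    have h1 : x ∈ (P : Subgroup G) ⊓ K := ⟨hx, (QuotientGroup.eq_one_iff x).1 h⟩
    rwa [inf_eq_bot_of_isPGroup_of_coprime P.isPGroup' pPrimeCore_coprime, Subgroup.mem_bot] at h1
  have hPV : ∀ x ∈ (P : Subgroup G), (x : G ⧸ K) ∈ V := fun x hx => by
    obtain ⟨k, hk⟩ := P.isPGroup' ⟨x, hx⟩
    have hxk : x ^ 11 ^ k = 1 := congrArg Subtype.val hk
    exact hall' _ (isPElement_of_pow_eq_one (k := k) hp.out (by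
      rw [← QuotientGroup.mk_pow, hxk, QuotientGroup.mk_one]))
  let φ : (P : Subgroup G) →* V :=
    ((QuotientGroup.mk' K).comp (P : Subgroup G).subtype).codRestrict V fun x => hPV x x.2
  have hφi : Function.Injective φ := (injective_iff_map_eq_one φ).2 fun x hx =>
    Subtype.ext (hinjP x x.2 (congrArg Subtype.val hx))
  have hcardP : Nat.card (P : Subgroup G) = 11 ^ 2 := by
    rw [P.card_eq_multiplicity]
    congr 1
    rw [← Subgroup.card_mul_index K, Nat.factorization_mul Nat.card_pos.ne' Subgroup.index_ne_zero_of_finite,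
      Subgroup.index_eq_card, ← Subgroup.card_mul_index V,
      Nat.factorization_mul Nat.card_pos.ne' Subgroup.index_ne_zero_of_finite, hV,
      Finsupp.add_apply, Finsupp.add_apply, Nat.factorization_eq_zero_of_not_dvd hpK,
      Nat.factorization_eq_zero_of_not_dvd hidx', show (121 : ℕ) = 11 ^ 2 by norm_num,
      hp.out.factorization_pow, Finsupp.single_eq_same, zero_add, add_zero]
  have hφs : Function.Surjective φ := (hφi.bijective_of_nat_card_le (by rw [hcardP, hV]; norm_num)).2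
  have hexpP : ∀ x ∈ (P : Subgroup G), x ^ 11 = 1 := fun x hx =>
    hinjP _ ((P : Subgroup G).pow_mem hx 11) (by
      rw [QuotientGroup.mk_pow]; exact hexp' _ (hPV x hx))
  have hM : ∀ (g : G), ∀ x ∈ (P : Subgroup G), ∃ c ∈ K, ∃ y ∈ (P : Subgroup G), g * x * g⁻¹ = c * y := by
    intro g x hx
    have h1 : ((g * x * g⁻¹ : G) : G ⧸ K) ∈ V := by
      rw [QuotientGroup.mk_mul, QuotientGroup.mk_mul, QuotientGroup.mk_inv]
      exact Subgroup.Normal.conj_mem inferInstance _ (hPV x hx) (g : G ⧸ K)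
    obtain ⟨⟨y, hy⟩, hye⟩ := hφs ⟨_, h1⟩
    have hye' : (y : G ⧸ K) = ((g * x * g⁻¹ : G) : G ⧸ K) := congrArg Subtype.val hye
    refine ⟨g * x * g⁻¹ * y⁻¹, (QuotientGroup.eq_one_iff _).1 ?_, y, hy, by group⟩
    rw [QuotientGroup.mk_mul, QuotientGroup.mk_inv, hye', mul_inv_cancel]
  obtain ⟨hcentK, hPn⟩ := centralizes K hK hKab hpK (fun a ha b hb => htwo a ha b hb)
    (fun x y hx hy hx' hy' => hconj x y hx hy (isPElement_of_pow_eq_one (k := 1) hp.out (by rwa [pow_one]))
      (isPElement_of_pow_eq_one (k := 1) hp.out (by rwa [pow_one])))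
    (P : Subgroup G) hcardP hexpP hM
  haveI := hPn
  have hPf : ∀ x ∈ (P : Subgroup G), f x = 1 := fun x hx => by
    show e (((x : G ⧸ K) : (G ⧸ K) ⧸ V)) = 1
    rw [(QuotientGroup.eq_one_iff _).2 (hPV x hx)]
    exact map_one e
  let π := QuotientGroup.lift (P : Subgroup G) f fun x hx => MonoidHom.mem_ker.2 (hPf x hx)
  have hπ : Function.Surjective π := fun s => by
    obtain ⟨x, hx⟩ := hf s
    exact ⟨(x : G ⧸ (P : Subgroup G)), hx⟩
  have hker : π.ker = K.map (QuotientGroup.mk' (P : Subgroup G)) := by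
    refine le_antisymm (fun q hq => ?_) ?_
    · obtain ⟨x, rfl⟩ := QuotientGroup.mk_surjective q
      obtain ⟨⟨y, hy⟩, hye⟩ := hφs ⟨(x : G ⧸ K), hfker x hq⟩
      have hye' : (y : G ⧸ K) = (x : G ⧸ K) := congrArg Subtype.val hye
      refine ⟨x * y⁻¹, (QuotientGroup.eq_one_iff _).1 ?_, ?_⟩
      · rw [QuotientGroup.mk_mul, QuotientGroup.mk_inv, hye', mul_inv_cancel]
      · show ((x * y⁻¹ : G) : G ⧸ (P : Subgroup G)) = x
        rw [QuotientGroup.mk_mul, QuotientGroup.mk_inv, (QuotientGroup.eq_one_iff y).2 hy, inv_one,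
          mul_one]
    · rintro _ ⟨k, hk, rfl⟩
      exact hKker k hk
  have hinjK : ∀ k ∈ K, (k : G ⧸ (P : Subgroup G)) = 1 → k = 1 := by
    intro k hk h
    exact hinjP k ((QuotientGroup.eq_one_iff k).1 h) ((QuotientGroup.eq_one_iff k).2 hk)
  have h11 : 11 ≤ Nat.card (ConjClasses (G ⧸ (P : Subgroup G))) := by
    refine extension_classes π hπ ?_ ?_ ?_ ?_
    · obtain ⟨k0, hk0, hk01⟩ := K.bot_or_exists_ne_one.resolve_left hK
      rw [hker]
      intro hbot
      have h1 : (QuotientGroup.mk' (P : Subgroup G)) k0 ∈ K.map (QuotientGroup.mk' (P : Subgroup G)) :=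
        Subgroup.mem_map_of_mem _ hk0
      rw [hbot, Subgroup.mem_bot] at h1
      exact hk01 (hinjK k0 hk0 h1)
    · rw [hker]
      refine ⟨⟨?_⟩⟩
      rintro ⟨_, a, ha, rfl⟩ ⟨_, b, hb, rfl⟩
      refine Subtype.ext ?_
      show (a : G ⧸ (P : Subgroup G)) * b = b * a
      rw [← QuotientGroup.mk_mul, ← QuotientGroup.mk_mul]
      exact congrArg _ (congrArg Subtype.val (hKab.is_comm.comm ⟨a, ha⟩ ⟨b, hb⟩))
    · rw [hker]
      exact fun h => hpK (h.trans (K.card_map_dvd _))
    · rw [hker]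
      rintro _ ⟨a, ha, rfl⟩ _ ⟨b, hb, rfl⟩ ha1 hb1
      exact (QuotientGroup.mk' (P : Subgroup G)).map_isConj
        (htwo a ha b hb (fun h => ha1 (by rw [h, map_one])) (fun h => hb1 (by rw [h, map_one])))
  refine h11.trans (classes_le (p := 11) (QuotientGroup.mk' (P : Subgroup G))
    (QuotientGroup.mk'_surjective _) ?_)
  rw [← Subgroup.index_eq_card]
  exact P.not_dvd_index

/-- The theorem, given the linear ingredients. -/
theorem main (hC : TransKGV94.ClassifyStmt.{u, u}) (hL : TransKGV94.LiftStmt.{u, u})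
    {G : Type u} [Group G] [Finite G] (p : ℕ) [hp : Fact p.Prime] (hsolv : IsPSolvable p G)
    (hdiv : p ∣ Nat.card G) (hconj : OneClass p G) :
    p ≤ Nat.card (PRegClass p G) ∨
      (Nat.card (PRegClass p G) = p - 1 ∧ Nonempty (G ≃* ↥(Cfsg.affineGroup (ZMod p)))) ∨
      (p = 11 ∧ Nat.card (PRegClass p G) = 9 ∧ (Nat.card G = 121 * 120 ∧
        ∃ H : Subgroup G, Cfsg.IsFrobeniusComplement H ∧
          Nonempty (H ≃* Matrix.SpecialLinearGroup (Fin 2) (ZMod 5)))) := by
  classical
  by_cases hk : p ≤ Nat.card (PRegClass p G)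
  · exact Or.inl hk
  push Not at hk
  by_cases hK : pPrimeCore p G = ⊥
  · obtain ⟨hne, hexp, hidx, hcent, htr, -⟩ := top_structure hsolv hdiv hK hconj
    set V := pCore p G
    have hle : Nat.card (ConjClasses (G ⧸ V)) ≤ Nat.card (PRegClass p G) :=
      classes_le (QuotientGroup.mk' V) (QuotientGroup.mk'_surjective V)
        (by rwa [← Subgroup.index_eq_card])
    rcases quotient_cases hC hL V hne hexp hidx hcent htr with h | ⟨hV, hi, hc⟩ | ⟨hp11, hV, ⟨e⟩⟩
    · omega
    · exact Or.inr (Or.inl ⟨by omega, affine_iso V hV hi hcent⟩)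
    · subst hp11
      have hc9 : Nat.card (ConjClasses (G ⧸ V)) = 9 := by
        rw [← classes_SL25]
        refine le_antisymm (Nat.card_le_card_of_surjective (ConjClasses.map e.symm.toMonoidHom)
          (ConjClasses.map_surjective e.symm.surjective)) (Nat.card_le_card_of_surjective
          (ConjClasses.map e.toMonoidHom) (ConjClasses.map_surjective e.surjective))
      have hi : V.index = 120 := by
        rw [Subgroup.index_eq_card, Nat.card_congr e.toEquiv, natCard_SL25]
      have hG : Nat.card G = 121 * 120 := by rw [← Subgroup.card_mul_index V, hV, hi]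
      have hfix : ∀ v ∈ V, v ≠ 1 → Subgroup.centralizer ({v} : Set G) = V := by
        intro v hv hv1
        have hVle : V ≤ Subgroup.centralizer ({v} : Set G) := fun w hw =>
          Subgroup.mem_centralizer_singleton_iff.2
            (Subgroup.mem_centralizer_iff.1 (hcent.ge hw) v hv).symm
        refine (Subgroup.eq_of_le_of_card_ge hVle ?_).symm
        have hcar : (ConjClasses.mk v).carrier = (V : Set G) \ {1} := by
          ext y
          rw [ConjClasses.mem_carrier_iff_mk_eq, ConjClasses.mk_eq_mk_iff_isConj, Set.mem_sdiff,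
            Set.mem_singleton_iff, SetLike.mem_coe]
          refine ⟨fun h => ?_, fun h => htr y h.1 v hv h.2 hv1⟩
          obtain ⟨w, hw⟩ := isConj_iff.1 h.symm
          rw [← hw]
          exact ⟨Subgroup.Normal.conj_mem inferInstance v hv w, fun h1 => hv1 (conj_eq_one_iff.1 h1)⟩
        have h1 := carrier_mul_centralizer v
        rw [hcar, Nat.card_coe_set_eq, Set.ncard_sdiff_singleton_of_mem V.one_mem,
          ← Nat.card_coe_set_eq, SetLike.coe_sort_coe, hV, hG] at h1
        omega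
      obtain ⟨H, hH, ⟨eH⟩, hup⟩ := frobenius_complement V hne (by omega) pCore_isPGroup hidx hfix
      exact Or.inr (Or.inr ⟨rfl, by omega, hG, H, hH, ⟨eH.trans e⟩⟩)
  · exfalso
    set K := pPrimeCore p G with hKdef
    have hpK : ¬ p ∣ Nat.card K := pPrimeCore_not_dvd
    have hdivX : p ∣ Nat.card (G ⧸ K) := by
      rw [← Subgroup.index_eq_card]
      exact (Nat.Coprime.dvd_mul_left (hp.out.coprime_iff_not_dvd.2 hpK)).1
        (by rw [Subgroup.card_mul_index]; exact hdiv)
    obtain ⟨hne, hexp, hidx, hcent, htr, -⟩ := top_structure (isPSolvable_quotient hsolv K) hdivX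
      pPrimeCore_quotient_eq_bot (hconj.map (QuotientGroup.mk' K) (QuotientGroup.mk'_surjective K))
    set V := pCore p (G ⧸ K)
    obtain ⟨k0, hk0, hk01⟩ := K.bot_or_exists_ne_one.resolve_left hK
    have hadd := classes_add_le (p := p) ((QuotientGroup.mk' V).comp (QuotientGroup.mk' K))
      ((QuotientGroup.mk'_surjective V).comp (QuotientGroup.mk'_surjective K))
      (by rwa [← Subgroup.index_eq_card]) (fun _ : Fin 1 => k0) (fun _ => ⟨hk01, by
        show ((k0 : G ⧸ K) : (G ⧸ K) ⧸ V) = 1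
        rw [(QuotientGroup.eq_one_iff k0).2 hk0, QuotientGroup.mk_one],
        fun h => hpK (h.trans (Subgroup.orderOf_dvd_natCard _ hk0))⟩)
      (fun i j _ => Subsingleton.elim i j)
    rw [Nat.card_fin] at hadd
    rcases quotient_cases hC hL V hne hexp hidx hcent htr with h | ⟨-, -, hc⟩ | ⟨hp11, hV, he⟩
    · omega
    · omega
    · subst hp11
      have := eleven_of_core hp hsolv hdiv hconj hK hV he
      omega

end Cfsg.Agent.Lib.TransClasses53
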