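import Cfsg.Agent.Lib.SolvLinear.Exceptional
import Cfsg.Agent.Lib.TransClasses53.ClassBound

/-!
# Semilinear groups transitive on nonzero vectors have many classes
-/

set_option autoImplicit false

namespace Cfsg.Agent.Lib.TransClasses53

open Cfsg.Agent.Lib.SolvLinear

universe u v

variable {q : ℕ} [Fact q.Prime] {V : Type v} [AddCommGroup V] [Module (ZMod q) V] [Finite V]
  [Nontrivial V] {G : Type u} [Group G] [Finite G] {ρ : G →* (V ≃ₗ[ZMod q] V)}

/-- A semilinear group has an abelian subgroup of index at most the dimension. -/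
theorem exists_abelian_index_le (hρ : Function.Injective ρ) (ht : IsVecTransitive ρ)
    (h : IsSemilinear ρ) :
    ∃ C : Subgroup G, IsMulCommutative C ∧ C.index ≤ Module.finrank (ZMod q) V := by
  classical
  obtain ⟨A, hn, hA, hk⟩ := h
  haveI := hn
  haveI : Finite (Module.End (ZMod q) V) :=
    Finite.of_injective (fun f : Module.End (ZMod q) V => ⇑f) DFunLike.coe_injective
  haveI : Finite (alg ρ A ≃ₐ[ZMod q] alg ρ A) :=
    Finite.of_injective (fun e : alg ρ A ≃ₐ[ZMod q] alg ρ A => ⇑e) DFunLike.coe_injective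
  obtain ⟨v0, hv0⟩ := exists_ne (0 : V)
  let f : alg ρ A →+ V :=
    { toFun := fun c => (c : Module.End (ZMod q) V) v0
      map_zero' := rfl
      map_add' := fun _ _ => rfl }
  have hf : Function.Injective f := by
    rw [injective_iff_map_eq_zero]
    intro c hc
    rcases eq_zero_or_isUnit ht A hA c.2 with h | ⟨b, hb, hb1⟩
    · exact Subtype.ext h
    · exfalso
      apply hv0
      have h2 : (b * (c : Module.End (ZMod q) V)) v0 = 0 := by
        rw [Module.End.mul_apply]
        rw [show (c : Module.End (ZMod q) V) v0 = 0 from hc, map_zero]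
      rwa [(alg_commute ρ hA hb c.2).eq, hb1] at h2
  have hbij : Function.Bijective f := hf.bijective_of_nat_card_le <| by
    rw [natCard_alg ht A hA, hk, Module.natCard_eq_pow_finrank (K := ZMod q), Nat.card_zmod]
  have hmem : ∀ y : (conjAut ρ A).ker, endHom ρ (y : G) ∈ alg ρ A := by
    intro y
    obtain ⟨c, hc⟩ := hbij.2 (endHom ρ (y : G) v0)
    have hcomm : ∀ b ∈ alg ρ A, Commute (endHom ρ (y : G)) b := fun b hb =>
      alg_commute_of_commute ρ (fun a ha =>
        Commute.map ((conjAut_eq_one_iff hρ A (y : G)).1 y.2 a ha) (endHom ρ)) hb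
    suffices endHom ρ (y : G) = c from this ▸ c.2
    refine LinearMap.ext fun w => ?_
    obtain ⟨b, rfl⟩ := hbij.2 w
    show endHom ρ (y : G) ((b : Module.End (ZMod q) V) v0) = _
    rw [← Module.End.mul_apply, (hcomm b b.2).eq, Module.End.mul_apply, ← hc]
    show (b : Module.End (ZMod q) V) ((c : Module.End (ZMod q) V) v0) = _
    rw [← Module.End.mul_apply, (alg_commute ρ hA b.2 c.2).eq]
    rfl
  refine ⟨(conjAut ρ A).ker, ⟨⟨fun a b => Subtype.ext (endHom_injective ρ hρ ?_)⟩⟩, ?_⟩
  · simp only [Subgroup.coe_mul, map_mul]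
    exact (alg_commute ρ hA (hmem a) (hmem b)).eq
  · rw [Subgroup.index_ker, ← hk]
    exact (Nat.card_le_card_of_injective _ Subtype.coe_injective).trans (card_aut_le ht A hA)

/-- Semilinear groups of dimension at least two have at least `q` classes. -/
theorem classes_semilinear (hρ : Function.Injective ρ) (ht : IsVecTransitive ρ)
    (h : IsSemilinear ρ) (hq : 5 ≤ q) (hn : 2 ≤ Module.finrank (ZMod q) V) :
    q ≤ Nat.card (ConjClasses G) := by
  obtain ⟨C, hC, hidx⟩ := exists_abelian_index_le hρ ht h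
  set n := Module.finrank (ZMod q) V
  have h1 := card_le_index_mul_classes C hC
  have h2 : Nat.card G ≤ n * n * Nat.card (ConjClasses G) := by
    rw [← Subgroup.card_mul_index C]
    calc Nat.card C * C.index ≤ C.index * Nat.card (ConjClasses G) * C.index :=
          Nat.mul_le_mul_right _ h1
      _ ≤ n * Nat.card (ConjClasses G) * n := Nat.mul_le_mul (Nat.mul_le_mul_right _ hidx) hidx
      _ = n * n * Nat.card (ConjClasses G) := by ring
  have hqn : q ^ n - 1 ≤ Nat.card G := Nat.le_of_dvd Nat.card_pos (pow_sub_one_dvd_card ht)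
  have hkey : ∀ m : ℕ, (m + 2) * (m + 2) ≤ q ^ (m + 1) := by
    intro m
    induction m with
    | zero => simpa using le_trans (by norm_num) hq
    | succ m ih =>
      rw [pow_succ]
      refine le_trans ?_ (Nat.mul_le_mul ih hq)
      nlinarith
  obtain ⟨m, hm⟩ := Nat.exists_eq_add_of_le hn
  rw [add_comm] at hm
  by_contra hlt
  push Not at hlt
  have h3 : q ^ n = q ^ (m + 1) * q := by rw [hm, ← pow_succ]
  have h4 := hkey m
  rw [← hm] at h4
  have h5 : n * n * (Nat.card (ConjClasses G) + 1) ≤ n * n * q := Nat.mul_le_mul_left _ hlt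
  have h6 : n * n * q ≤ q ^ n := h3 ▸ Nat.mul_le_mul_right _ h4
  have h7 : 2 * 2 ≤ n * n := Nat.mul_le_mul hn hn
  rw [mul_add, mul_one] at h5
  omega

end Cfsg.Agent.Lib.TransClasses53
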